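import Cfsg.Agent.Lib.Chev.Steinberg
import Cfsg.Agent.Lib.Chev.WeightData
import Cfsg.Agent.Lib.Chev.Simple
import Cfsg.Agent.Lib.Chev.Char

/-!
Automorphisms of a finite Chevalley group preserving the two unipotent subgroups.
-/

set_option autoImplicit false
set_option linter.unusedSectionVars false

namespace Cfsg.Agent.Lib.Chev

open Cfsg.Lie
open scoped Matrix

variable {D : ChevalleyDatum} {T : Tables} {F : Type*} [Field F]

/-- The positive unipotent subgroup inside the group. -/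
def upIn (D : ChevalleyDatum) (F : Type*) [Field F] : Subgroup ↥(D.group F) :=
  (D.posUnipotent F).subgroupOf (D.group F)

/-- The negative unipotent subgroup inside the group. -/
def umIn (D : ChevalleyDatum) (F : Type*) [Field F] : Subgroup ↥(D.group F) :=
  (D.negUnipotent F).subgroupOf (D.group F)

/-- An automorphism preserving both unipotent subgroups. -/
def Std (θ : MulAut ↥(D.group F)) : Prop :=
  (upIn D F).map θ.toMonoidHom = upIn D F ∧ (umIn D F).map θ.toMonoidHom = umIn D F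

theorem map_mul_aut (θ φ : MulAut ↥(D.group F)) (K : Subgroup ↥(D.group F)) :
    K.map (θ * φ : MulAut _).toMonoidHom = (K.map φ.toMonoidHom).map θ.toMonoidHom := by
  rw [Subgroup.map_map]; rfl

theorem map_inv_aut {θ : MulAut ↥(D.group F)} {K K' : Subgroup ↥(D.group F)}
    (h : K.map θ.toMonoidHom = K') : K'.map (θ⁻¹ : MulAut _).toMonoidHom = K := by
  rw [← h, ← map_mul_aut, inv_mul_cancel]
  exact Subgroup.map_id K

theorem Std.mul {θ φ : MulAut ↥(D.group F)} (hθ : Std θ) (hφ : Std φ) : Std (θ * φ) :=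
  ⟨by rw [map_mul_aut, hφ.1, hθ.1], by rw [map_mul_aut, hφ.2, hθ.2]⟩

theorem Std.inv {θ : MulAut ↥(D.group F)} (hθ : Std θ) : Std θ⁻¹ :=
  ⟨map_inv_aut hθ.1, map_inv_aut hθ.2⟩

theorem std_one : Std (1 : MulAut ↥(D.group F)) := ⟨Subgroup.map_id _, Subgroup.map_id _⟩

namespace Good

variable (G : Good D T)
include G

/-- A root element inside the group. -/
def GX (F : Type*) [Field F] (r : ℕ) (t : F) : ↥(D.group F) :=
  ⟨G.X F r t, by
    by_cases hr : r < D.nroots
    · exact G.X_mem_group hr t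
    · rw [show G.X F r t = 1 from Units.ext (by simp [ChevalleyDatum.x, hr])]; exact one_mem _⟩

theorem GX_val (r : ℕ) (t : F) : ((G.GX F r t : ↥(D.group F)) : GL D.Idx F) = G.X F r t := rfl

theorem GX_add (r : ℕ) (t u : F) : G.GX F r t * G.GX F r u = G.GX F r (t + u) :=
  Subtype.ext (G.X_add r t u)

theorem GX_zero (r : ℕ) : G.GX F r (0 : F) = 1 := Subtype.ext (G.X_zero r)

theorem GX_inv (r : ℕ) (t : F) : (G.GX F r t)⁻¹ = G.GX F r (-t) := Subtype.ext (G.X_inv r t)

theorem GX_injective {r : ℕ} (hr : r < D.nroots) {t u : F} (h : G.GX F r t = G.GX F r u) : t = u :=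
  G.X_injective hr (congrArg Subtype.val h)

theorem GX_root_inj {a b : ℕ} (ha : a < D.nroots) (hb : b < D.nroots) {t u : F} (ht : t ≠ 0)
    (h : G.GX F a t = G.GX F b u) : a = b :=
  G.X_root_inj ha hb ht (congrArg Subtype.val h)

theorem sim_inj {i j : ℕ} (hi : i < D.rank) (hj : j < D.rank) (h : sim D i = sim D j) : i = j := by
  have h2 := G.k_sim hi hi
  rw [h, G.k_sim hj hi] at h2
  by_contra hne
  simp [hne] at h2

theorem ng_sim_lt {i : ℕ} (hi : i < D.rank) : ng D (sim D i) < npos D := by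
  have := G.even_n; have := G.sim_pos hi; have := G.sim_lt hi; unfold ng; omega

theorem ng_sim_inj {i j : ℕ} (hi : i < D.rank) (hj : j < D.rank)
    (h : ng D (sim D i) = ng D (sim D j)) : i = j :=
  G.sim_inj hi hj (by rw [← G.ng_ng (G.sim_lt hi), h, G.ng_ng (G.sim_lt hj)])

/-- Conjugation by the longest element exchanges the two unipotent subgroups. -/
theorem exists_flipper : ∃ l, IsW D l ∧ (∀ r < D.nroots, npos D ≤ r → wl T l r < npos D) ∧
    (∀ r < D.nroots, r < npos D → npos D ≤ wl T l r) ∧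
    ∃ c : ↥(D.group F), (c : GL D.Idx F) = G.nl F l ∧
      (upIn D F).map (MulAut.conj c).toMonoidHom = umIn D F ∧
      (umIn D F).map (MulAut.conj c).toMonoidHom = upIn D F := by
  obtain ⟨l, hl, hpn, hnp⟩ := G.exists_longest
  refine ⟨l, hl, hpn, hnp, ⟨G.nl F l, G.monomial_le_group (G.nl_mem_monomial hl)⟩, rfl, ?_⟩
  set c : ↥(D.group F) := ⟨G.nl F l, G.monomial_le_group (G.nl_mem_monomial hl)⟩
  have hsq : G.nl F l * G.nl F l ∈ D.diagonalSubgroup F := by
    rw [← G.nl_append]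
    refine G.nl_mem_diag_of_pos _ rfl (hl.append hl) fun i hi => ?_
    rw [wl_append]
    exact hnp _ (G.wl_lt hl (G.sim_lt hi)) (hpn _ (G.sim_lt hi) (G.sim_pos hi))
  have h1 : ∀ u ∈ D.posUnipotent F, G.nl F l * u * (G.nl F l)⁻¹ ∈ D.negUnipotent F := fun u hu => by
    have h' : D.posUnipotent F ≤ (D.negUnipotent F).comap (MulAut.conj (G.nl F l)).toMonoidHom :=
      G.posUnipotent_le_of fun r hr hp t => by
        simpa [G.nl_conj_X hl hr] using G.X_mem_negUnipotent (G.wl_lt hl hr) (hpn r hr hp) _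
    simpa using h' hu
  have h2 : ∀ u ∈ D.negUnipotent F, G.nl F l * u * (G.nl F l)⁻¹ ∈ D.posUnipotent F := fun u hu => by
    have h' : D.negUnipotent F ≤ (D.posUnipotent F).comap (MulAut.conj (G.nl F l)).toMonoidHom :=
      G.negUnipotent_le_of fun r hr hn t => by
        simpa [G.nl_conj_X hl hr] using G.X_mem_posUnipotent (G.wl_lt hl hr) (hnp r hr hn) _
    simpa using h' hu
  have hd : ∀ {K : Subgroup (GL D.Idx F)}, D.diagonalSubgroup F ≤ Subgroup.normalizer (K : Set _) →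
      ∀ u ∈ K, (G.nl F l * G.nl F l)⁻¹ * u * (G.nl F l * G.nl F l) ∈ K := fun hK u hu => by
    have := (Subgroup.mem_normalizer_iff.1 (hK (inv_mem hsq)) u).1 hu
    rwa [inv_inv] at this
  constructor
  · refine le_antisymm ?_ fun y hy => ?_
    · rintro _ ⟨x, hx, rfl⟩
      exact h1 _ hx
    · refine ⟨c⁻¹ * y * c, ?_, ?_⟩
      · show (G.nl F l)⁻¹ * (y : GL D.Idx F) * G.nl F l ∈ D.posUnipotent F
        have h3 := hd G.diag_normalizes_pos _ (h2 _ (show (y : GL D.Idx F) ∈ D.negUnipotent F from hy))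
        convert h3 using 1
        group
      · simp [mul_assoc]
  · refine le_antisymm ?_ fun y hy => ?_
    · rintro _ ⟨x, hx, rfl⟩
      exact h2 _ hx
    · refine ⟨c⁻¹ * y * c, ?_, ?_⟩
      · show (G.nl F l)⁻¹ * (y : GL D.Idx F) * G.nl F l ∈ D.negUnipotent F
        have h3 := hd G.diag_normalizes_neg _ (h1 _ (show (y : GL D.Idx F) ∈ D.posUnipotent F from hy))
        convert h3 using 1
        group
      · simp [mul_assoc]

/-- An element of the group normalising both unipotent subgroups lies in `H`. -/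
theorem mem_diag_of_normalizes {x : ↥(D.group F)}
    (hU : ∀ u ∈ D.posUnipotent F, (x : GL D.Idx F) * u * (x : GL D.Idx F)⁻¹ ∈ D.posUnipotent F)
    (hV : ∀ u ∈ D.negUnipotent F, (x : GL D.Idx F) * u * (x : GL D.Idx F)⁻¹ ∈ D.negUnipotent F) :
    (x : GL D.Idx F) ∈ D.diagonalSubgroup F := by
  obtain ⟨b, hb, n, l, hl, u, hu, e⟩ := G.exists_normal_form x.2
  have hBU : ∀ {b : GL D.Idx F}, b ∈ D.borelSubgroup F → ∀ {y}, y ∈ D.posUnipotent F →
      b * y * b⁻¹ ∈ D.posUnipotent F := fun {b} hb {y} hy =>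
    (Subgroup.mem_normalizer_iff.1
      ((sup_le Subgroup.le_normalizer G.diag_normalizes_pos : D.borelSubgroup F ≤ _) hb) y).1 hy
  have hpos : ∀ i < D.rank, npos D ≤ wl T l (sim D i) := by
    intro i hi
    by_contra hneg
    obtain ⟨hlt, c, hc, hn⟩ := G.rep_act hl _ (G.sim_lt hi)
    have hu' : u ∈ D.posUnipotent F := G.USub_le_pos _ hu
    have h1 := hU _ (hBU (Subgroup.mem_sup_left (inv_mem hu'))
      (G.X_mem_posUnipotent (G.sim_lt hi) (G.sim_pos hi) 1))
    have h2 := hBU (inv_mem hb) h1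
    have e2 : b⁻¹ * ((x : GL D.Idx F) * (u⁻¹ * G.X F (sim D i) 1 * u⁻¹⁻¹) * (x : GL D.Idx F)⁻¹) *
        b⁻¹⁻¹ = n * G.X F (sim D i) 1 * n⁻¹ := by rw [e]; group
    rw [e2, hn, mul_one] at h2
    have h3 := Subgroup.mem_bot.1 (G.borel_inf_neg (F := F) ▸ Subgroup.mem_inf.2
      ⟨Subgroup.mem_sup_left h2, G.X_mem_negUnipotent hlt (Nat.lt_of_not_le hneg) c⟩)
    rw [G.X_eq_one_iff hlt] at h3
    exact hc h3
  have hn : n ∈ D.diagonalSubgroup F := by
    have h1 := mul_mem hl.2 (G.nl_mem_diag_of_pos (F := F) _ rfl hl.1 hpos)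
    rwa [inv_mul_cancel_right] at h1
  have hxB : (x : GL D.Idx F) ∈ D.borelSubgroup F := e ▸
    mul_mem (mul_mem hb (Subgroup.mem_sup_right hn)) (Subgroup.mem_sup_left (G.USub_le_pos _ hu))
  obtain ⟨v, hv, h, hh, e'⟩ := G.mem_borel.1 hxB
  obtain ⟨l0, hl0, hpn, hnp, c, hc, hcU, hcV⟩ := G.exists_flipper (F := F)
  have hvV : ∀ y ∈ D.negUnipotent F, v * y * v⁻¹ ∈ D.negUnipotent F := by
    intro y hy
    have h1 := hV _ ((Subgroup.mem_normalizer_iff.1 (G.diag_normalizes_neg (inv_mem hh)) y).1 hy)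
    convert h1 using 1
    rw [e']; group
  set ν := G.nl F l0
  have hvg : v ∈ D.group F := G.borel_le_group (Subgroup.mem_sup_left hv)
  have h1 : ν * v * ν⁻¹ ∈ D.negUnipotent F := by
    have h2 : MulAut.conj c ⟨v, hvg⟩ ∈ umIn D F := hcU ▸ Subgroup.mem_map_of_mem _ hv
    rw [← hc]
    exact h2
  have h2 : ∀ r < D.nroots, npos D ≤ r → ∀ t : F,
      (ν * v * ν⁻¹) * G.X F r t * (ν * v * ν⁻¹)⁻¹ ∈ D.posUnipotent F := by
    intro r hr hp t
    have h3 : (⟨G.X F r t, G.X_mem_group hr t⟩ : ↥(D.group F)) ∈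
        (umIn D F).map (MulAut.conj c).toMonoidHom := hcV.symm ▸ G.X_mem_posUnipotent hr hp t
    obtain ⟨y, hy, ey⟩ := h3
    have h4 := hvV _ hy
    have h5 : MulAut.conj c ⟨v * y * v⁻¹, mul_mem (mul_mem hvg y.2) (inv_mem hvg)⟩ ∈ upIn D F :=
      hcV ▸ Subgroup.mem_map_of_mem _ h4
    have e3 : (ν * v * ν⁻¹) * G.X F r t * (ν * v * ν⁻¹)⁻¹ =
        ν * (v * (y : GL D.Idx F) * v⁻¹) * ν⁻¹ := by
      have : (c : GL D.Idx F) * y * (c : GL D.Idx F)⁻¹ = G.X F r t := congrArg Subtype.val ey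
      rw [← this, hc]
      group
    rw [e3, ← hc]
    exact h5
  have h6 : ν * v * ν⁻¹ ∈ D.borelSubgroup F := by
    -- it normalises the positive unipotent subgroup
    have hN : ν * v * ν⁻¹ ∈ D.group F :=
      mul_mem (mul_mem (G.monomial_le_group (G.nl_mem_monomial hl0)) hvg)
        (inv_mem (G.monomial_le_group (G.nl_mem_monomial hl0)))
    obtain ⟨b', hb', n', l', hl', u', hu', e4⟩ := G.exists_normal_form hN
    have hpos' : ∀ i < D.rank, npos D ≤ wl T l' (sim D i) := by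
      intro i hi
      by_contra hneg
      obtain ⟨hlt, c', hc', hn'⟩ := G.rep_act hl' _ (G.sim_lt hi)
      have hu'' : u' ∈ D.posUnipotent F := G.USub_le_pos _ hu'
      have hall : ∀ y ∈ D.posUnipotent F,
          (ν * v * ν⁻¹) * y * (ν * v * ν⁻¹)⁻¹ ∈ D.posUnipotent F := fun y hy => by
        have h' : D.posUnipotent F ≤
            (D.posUnipotent F).comap (MulAut.conj (ν * v * ν⁻¹)).toMonoidHom :=
          G.posUnipotent_le_of fun r hr hp t => h2 r hr hp t
        exact h' hy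
      have k1 := hall _ (hBU (Subgroup.mem_sup_left (inv_mem hu''))
        (G.X_mem_posUnipotent (G.sim_lt hi) (G.sim_pos hi) 1))
      have k2 := hBU (inv_mem hb') k1
      have k3 : b'⁻¹ * (ν * v * ν⁻¹ * (u'⁻¹ * G.X F (sim D i) 1 * u'⁻¹⁻¹) * (ν * v * ν⁻¹)⁻¹) *
          b'⁻¹⁻¹ = n' * G.X F (sim D i) 1 * n'⁻¹ := by rw [e4]; group
      rw [k3, hn', mul_one] at k2
      have k4 := Subgroup.mem_bot.1 (G.borel_inf_neg (F := F) ▸ Subgroup.mem_inf.2
        ⟨Subgroup.mem_sup_left k2, G.X_mem_negUnipotent hlt (Nat.lt_of_not_le hneg) c'⟩)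
      rw [G.X_eq_one_iff hlt] at k4
      exact hc' k4
    have hn' : n' ∈ D.diagonalSubgroup F := by
      have h1 := mul_mem hl'.2 (G.nl_mem_diag_of_pos (F := F) _ rfl hl'.1 hpos')
      rwa [inv_mul_cancel_right] at h1
    exact e4 ▸ mul_mem (mul_mem hb' (Subgroup.mem_sup_right hn'))
      (Subgroup.mem_sup_left (G.USub_le_pos _ hu'))
  have h7 := Subgroup.mem_bot.1 (G.borel_inf_neg (F := F) ▸ Subgroup.mem_inf.2 ⟨h6, h1⟩)
  rw [conj_eq_one_iff] at h7
  rw [e', h7, one_mul]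
  exact hh

/-- Conjugates of the positive unipotent subgroup opposite to it. -/
theorem exists_conj_std [Fintype F] (p : ℕ) [Fact p.Prime] [CharP F p] (θ : MulAut ↥(D.group F)) :
    ∃ x : ↥(D.group F), Std (MulAut.conj x * θ) := by
  classical
  obtain ⟨S, hS⟩ := G.exists_sylow (F := F) p
  have hsyl : ∀ g : MulAut ↥(D.group F), ∃ P : Sylow p ↥(D.group F),
      (P : Subgroup ↥(D.group F)) = (upIn D F).map g.toMonoidHom := fun g => by
    refine ⟨(IsPGroup.map S.2 g.toMonoidHom).toSylow ?_, ?_⟩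
    swap
    · show (S : Subgroup ↥(D.group F)).map g.toMonoidHom = _
      rw [hS]; rfl
    rw [show (S : Subgroup ↥(D.group F)).map g.toMonoidHom =
      (S : Subgroup ↥(D.group F)).map (g : ↥(D.group F) →* ↥(D.group F)) from rfl,
      Subgroup.index_map_equiv]
    exact S.not_dvd_index
  obtain ⟨P, hP⟩ := hsyl θ
  obtain ⟨x, hx⟩ := MulAction.exists_smul_eq ↥(D.group F) P S
  have h1 : (upIn D F).map (MulAut.conj x * θ : MulAut _).toMonoidHom = upIn D F := by
    rw [map_mul_aut, ← hP]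
    have h := congrArg (fun Q : Sylow p ↥(D.group F) => (Q : Subgroup ↥(D.group F))) hx
    exact h.trans hS
  set θ' : MulAut ↥(D.group F) := MulAut.conj x * θ
  obtain ⟨l0, hl0, hpn, hnp, c, hc, hcU, hcV⟩ := G.exists_flipper (F := F)
  -- the image of the negative subgroup is `g U g⁻¹`
  set g : ↥(D.group F) := θ' c
  have h2 : (umIn D F).map θ'.toMonoidHom = (upIn D F).map (MulAut.conj g).toMonoidHom := by
    rw [← hcU, ← map_mul_aut]
    have e : θ' * MulAut.conj c = MulAut.conj g * θ' := MulEquiv.ext fun y => by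
      simp [g, map_mul, map_inv]
    rw [e, map_mul_aut, h1]
  obtain ⟨b, hb, n, l, hl, u, hu, e⟩ := G.exists_normal_form g.2
  have hu' : u ∈ D.posUnipotent F := G.USub_le_pos _ hu
  have hflip : ∀ r < D.nroots, npos D ≤ r → wl T l r < npos D := by
    intro r hr hp
    by_contra hpos
    obtain ⟨hlt, k, hk, hn⟩ := G.rep_act hl r hr
    have hy : u⁻¹ * G.X F r 1 * u ∈ D.posUnipotent F :=
      mul_mem (mul_mem (inv_mem hu') (G.X_mem_posUnipotent hr hp 1)) hu'
    have hyg : u⁻¹ * G.X F r 1 * u ∈ D.group F := G.borel_le_group (Subgroup.mem_sup_left hy)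
    have hz1 : MulAut.conj g ⟨_, hyg⟩ ∈ (umIn D F).map θ'.toMonoidHom :=
      h2.symm ▸ Subgroup.mem_map_of_mem _ hy
    have hz2 : MulAut.conj g ⟨_, hyg⟩ ∈ (upIn D F).map θ'.toMonoidHom := by
      rw [h1]
      show (g : GL D.Idx F) * (u⁻¹ * G.X F r 1 * u) * (g : GL D.Idx F)⁻¹ ∈ D.posUnipotent F
      have e2 : (g : GL D.Idx F) * (u⁻¹ * G.X F r 1 * u) * (g : GL D.Idx F)⁻¹ =
          b * (n * G.X F r 1 * n⁻¹) * b⁻¹ := by rw [e]; group
      rw [e2, hn]
      exact (Subgroup.mem_normalizer_iff.1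
        ((sup_le Subgroup.le_normalizer G.diag_normalizes_pos : D.borelSubgroup F ≤ _) hb) _).1
        (G.X_mem_posUnipotent hlt (Nat.le_of_not_lt hpos) _)
    obtain ⟨a, ha, ea⟩ := hz1
    obtain ⟨a', ha', ea'⟩ := hz2
    have haa : a = a' := θ'.injective (ea.trans ea'.symm)
    have ha1 : (a : GL D.Idx F) = 1 := Subgroup.mem_bot.1 (G.borel_inf_neg (F := F) ▸
      Subgroup.mem_inf.2 ⟨Subgroup.mem_sup_left (haa ▸ ha'), ha⟩)
    rw [show a = 1 from Subtype.ext ha1, map_one] at ea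
    have h3 : (g : GL D.Idx F) * (u⁻¹ * G.X F r 1 * u) * (g : GL D.Idx F)⁻¹ = 1 :=
      (congrArg Subtype.val ea).symm
    rw [conj_eq_one_iff] at h3
    have h4 : G.X F r (1 : F) = 1 := by
      rw [show G.X F r (1 : F) = u * (u⁻¹ * G.X F r 1 * u) * u⁻¹ by group, h3]; simp
    rw [G.X_eq_one_iff hr] at h4
    exact one_ne_zero h4
  obtain ⟨v, hv, h, hh, eb⟩ := G.mem_borel.1 hb
  have hnU : ∀ y ∈ D.posUnipotent F, n * y * n⁻¹ ∈ D.negUnipotent F := by
    intro y hy
    have h' : D.posUnipotent F ≤ (D.negUnipotent F).comap (MulAut.conj n).toMonoidHom :=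
      G.posUnipotent_le_of fun r hr hp t => by
        obtain ⟨hlt, k, -, hn⟩ := G.rep_act hl r hr
        simpa [hn t] using G.X_mem_negUnipotent hlt (hflip r hr hp) _
    simpa using h' hy
  have hvg : v⁻¹ ∈ D.group F := inv_mem (G.borel_le_group (Subgroup.mem_sup_left hv))
  set w : ↥(D.group F) := ⟨v⁻¹, hvg⟩
  refine ⟨w * x, ?_⟩
  rw [map_mul, mul_assoc]
  have hwU : (upIn D F).map (MulAut.conj w).toMonoidHom = upIn D F := by
    refine le_antisymm ?_ fun y hy => ?_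
    · rintro _ ⟨y, hy, rfl⟩
      exact mul_mem (mul_mem (inv_mem hv) hy) (inv_mem (inv_mem hv))
    · exact ⟨w⁻¹ * y * w, mul_mem (mul_mem (inv_mem (inv_mem hv)) hy) (inv_mem hv),
        by simp [mul_assoc]⟩
  refine ⟨by rw [map_mul_aut, h1, hwU], ?_⟩
  rw [map_mul_aut, h2]
  have hle : ((upIn D F).map (MulAut.conj g).toMonoidHom).map (MulAut.conj w).toMonoidHom ≤
      umIn D F := by
    rintro _ ⟨_, ⟨y, hy, rfl⟩, rfl⟩
    show v⁻¹ * ((g : GL D.Idx F) * (y : GL D.Idx F) * (g : GL D.Idx F)⁻¹) * v⁻¹⁻¹ ∈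
      D.negUnipotent F
    have e2 : v⁻¹ * ((g : GL D.Idx F) * (y : GL D.Idx F) * (g : GL D.Idx F)⁻¹) * v⁻¹⁻¹ =
        h * (n * (u * (y : GL D.Idx F) * u⁻¹) * n⁻¹) * h⁻¹ := by rw [e, eb]; group
    rw [e2]
    exact (Subgroup.mem_normalizer_iff.1 (G.diag_normalizes_neg hh) _).1
      (hnU _ (mul_mem (mul_mem hu' hy) (inv_mem hu')))
  refine Subgroup.eq_of_le_of_card_ge hle (le_of_eq ?_)
  rw [Subgroup.card_map_of_injective (MulEquiv.injective _),
    Subgroup.card_map_of_injective (MulEquiv.injective _), ← hcU,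
    Subgroup.card_map_of_injective (MulEquiv.injective _)]

end Good

end Cfsg.Agent.Lib.Chev
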