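import Cfsg.Agent.Lib.Chev.Aut.Norm

/-!
Every automorphism preserving the unipotent subgroups is diagonal times graph times field.
-/

set_option autoImplicit false
set_option linter.unusedSectionVars false

namespace Cfsg.Agent.Lib.Chev

open Cfsg.Lie
open scoped Matrix

/-- Two nodes have the same adjacency as their images. -/
def sameAdj (D : ChevalleyDatum) (T : Tables) (a b m k : ℕ) : Bool :=
  (decide (T.A a (sim D b) = 0)) == (decide (T.A m (sim D k) = 0))

/-- Partial injective maps preserving adjacency. -/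
def permSearch (D : ChevalleyDatum) (T : Tables) : ℕ → List (List ℕ)
  | 0 => [[]]
  | k + 1 => (permSearch D T k).flatMap fun l =>
      ((List.range D.rank).filter fun v => !l.contains v && allLt k fun m =>
        sameAdj D T (l.getD m 0) v m k).map fun v => l ++ [v]

/-- The exponent attached to a node under a permutation given as a list. -/
def expL (D : ChevalleyDatum) (c : ℕ) (l : List ℕ) (i : ℕ) : ℕ :=
  if l.getD i 0 = i then 1 else D.graphExp c i (l.getD i 0)

/-- The edge condition between two adjacent nodes. -/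
def chkEdge (D : ChevalleyDatum) (T : Tables) (l : List ℕ) (c i j : ℕ) : Bool :=
  let a' := T.A (l.getD i 0) (sim D (l.getD j 0))
  (T.A i (sim D j) != -1) ||
    (decide (a' = -1 ∨ a' = -(c : ℤ)) && ((expL D c l j : ℤ) == (expL D c l i : ℤ) * -a'))

/-- Nodes reached from the root along edges. -/
def edgeReach (D : ChevalleyDatum) (T : Tables) (root : ℕ) : ℕ → List ℕ
  | 0 => [root]
  | k + 1 =>
    let R := edgeReach D T root k
    R ++ (List.range D.rank).filter fun j => R.any fun i => decide (i < D.rank) &&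
      decide (T.A i (sim D j) = -1 ∨ T.A j (sim D i) = -1)

/-- The table conditions for one candidate permutation. -/
def chkCand (D : ChevalleyDatum) (T : Tables) (cand : List ℕ × ℕ × ℕ) : Bool :=
  let l := cand.1
  let c := cand.2.1
  let root := cand.2.2
  decide (root < D.rank) && decide (c = 1 ∨ c = 2 ∨ c = 3) && (expL D c l root == 1) &&
    (allLt D.rank fun i => (expL D c l i == 1 || expL D c l i == c) &&
      ((c != 1) || (expL D 5 l i == 1))) &&
    (allLt D.rank fun i => allLt D.rank fun j => chkEdge D T l c i j) &&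
    (c == 1 || anyLt D.rank fun i => anyLt D.rank fun j =>
      decide (T.A i (sim D j) = -1 ∧ T.A (l.getD i 0) (sim D (l.getD j 0)) = -(c : ℤ))) &&
    (allLt D.rank fun i => (edgeReach D T root D.rank).contains i)

/-- All adjacency preserving permutations are candidates and satisfy the conditions. -/
def chkCands (D : ChevalleyDatum) (T : Tables) (L : List (List ℕ × ℕ × ℕ)) : Bool :=
  ((permSearch D T D.rank).all fun l => L.any fun e => e.1 == l) && L.all fun e => chkCand D T e

variable {D : ChevalleyDatum} {T : Tables} {F : Type*} [Field F]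

theorem permSearch_complete {g : ℕ → ℕ} (hlt : ∀ m < D.rank, g m < D.rank)
    (hinj : ∀ a < D.rank, ∀ b < D.rank, g a = g b → a = b)
    (hadj : ∀ a < D.rank, ∀ b < D.rank, (T.A (g a) (sim D (g b)) = 0 ↔ T.A a (sim D b) = 0)) :
    ∀ k ≤ D.rank, (List.range k).map g ∈ permSearch D T k := by
  intro k
  induction k with
  | zero => intro _; simp [permSearch]
  | succ k ih =>
    intro hk
    simp only [permSearch, List.mem_flatMap]
    refine ⟨_, ih (by omega), ?_⟩
    rw [List.mem_map]
    refine ⟨g k, ?_, by rw [List.range_succ, List.map_append, List.map_singleton]⟩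
    rw [List.mem_filter]
    refine ⟨List.mem_range.2 (hlt k (by omega)), ?_⟩
    rw [Bool.and_eq_true]
    constructor
    · simp only [Bool.not_eq_true', List.contains_eq_mem, decide_eq_false_iff_not, List.mem_map,
        List.mem_range, not_exists, not_and]
      intro m hm e
      have := hinj m (by omega) k (by omega) e
      omega
    · have : ∀ n (f : ℕ → Bool), (∀ m < n, f m = true) → allLt n f = true := by
        intro n f
        induction n with
        | zero => intro _; rfl
        | succ n ih2 => intro hf; simp [allLt, hf n (Nat.lt_succ_self n), ih2 fun c hc => hf c (by omega)]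
      refine this _ _ fun m hm => ?_
      rw [sameAdj, show ((List.range k).map g).getD m 0 = g m from by
        simp [List.getD_eq_getElem?_getD, hm]]
      simp [hadj m (by omega) k (by omega)]

/-- A power map that is additive on a field. -/
theorem additive_power {c : ℕ} (hc : c = 1 ∨ c = 2 ∨ c = 3)
    (h : ∀ x y : F, (x + y) ^ c = x ^ c + y ^ c) :
    c = 1 ∨ (ringChar F = c ∧ Nat.Prime c) ∨ ∀ x : F, x = 0 ∨ x = 1 := by
  rcases hc with rfl | rfl | rfl
  · exact Or.inl rfl
  · refine Or.inr (Or.inl ⟨?_, Nat.prime_two⟩)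
    have h2 : ((2 : ℕ) : F) = 0 := by
      have := h 1 1
      push_cast
      linear_combination this

    exact CharP.ringChar_of_prime_eq_zero Nat.prime_two h2
  · have h6 : (3 : F) * 2 = 0 := by linear_combination h 1 1
    rcases mul_eq_zero.1 h6 with h3 | h2
    · exact Or.inr (Or.inl ⟨CharP.ringChar_of_prime_eq_zero Nat.prime_three (by exact_mod_cast h3),
        Nat.prime_three⟩)
    · refine Or.inr (Or.inr fun x => ?_)
      have h4 : x * (x + 1) = 0 := by linear_combination h x 1 - (x ^ 2 + x) * h2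
      rcases mul_eq_zero.1 h4 with h5 | h5
      · exact Or.inl h5
      · exact Or.inr (by linear_combination h5 - h2)

theorem pow_of_zero_one {x : F} (h : x = 0 ∨ x = 1) {e : ℕ} (he : e ≠ 0) : x ^ e = x := by
  rcases h with rfl | rfl <;> simp [he]

namespace Good

variable (G : Good D T)
include G

variable {θ : MulAut ↥(D.group F)} {π : Equiv.Perm (Fin D.rank)} {f : Fin D.rank → F → F}

theorem exists_cand (h : G.Act1 θ π f) (hone : ∀ i, f i 1 = 1) {L : List (List ℕ × ℕ × ℕ)}
    (hL : chkCands D T L = true) :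
    ∃ e ∈ L, chkCand D T e = true ∧ ∀ i : Fin D.rank, e.1.getD i.val 0 = (π i).val := by
  simp only [chkCands, Bool.and_eq_true, List.all_eq_true] at hL
  let g : ℕ → ℕ := fun m => if hm : m < D.rank then (π ⟨m, hm⟩).val else m
  have hg : ∀ i : Fin D.rank, g i.val = (π i).val := fun i => by simp [g, i.isLt]
  have hmem := permSearch_complete (D := D) (T := T) (g := g)
    (fun m hm => by rw [show m = (⟨m, hm⟩ : Fin D.rank).val from rfl, hg]; exact Fin.isLt _)
    (fun a ha b hb e => by
      rw [show a = (⟨a, ha⟩ : Fin D.rank).val from rfl, show b = (⟨b, hb⟩ : Fin D.rank).val from rfl,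
        hg, hg] at e
      exact congrArg Fin.val (π.injective (Fin.ext e)))
    (fun a ha b hb => by
      rw [show a = (⟨a, ha⟩ : Fin D.rank).val from rfl, show b = (⟨b, hb⟩ : Fin D.rank).val from rfl,
        hg, hg]
      exact (G.act1_adj h hone ⟨a, ha⟩ ⟨b, hb⟩).symm)
    D.rank le_rfl
  obtain ⟨e, he, he'⟩ := List.any_eq_true.1 (hL.1 _ hmem)
  rw [beq_iff_eq] at he'
  refine ⟨e, he, hL.2 e he, fun i => ?_⟩
  rw [he', ← hg i]
  simp [List.getD_eq_getElem?_getD, i.isLt]

/-- The parameters are powers of one field automorphism. -/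
theorem exists_sigma [Finite F] (h : G.Act1 θ π f) (hone : ∀ i, f i 1 = 1)
    {L : List (List ℕ × ℕ × ℕ)} (hL : chkCands D T L = true) :
    ∃ σ : F ≃+* F, ∀ i t, f i t = σ t ^ D.graphExp (ringChar F) i.val (π i).val := by
  obtain ⟨⟨l, c, root⟩, -, hcand, hl⟩ := G.exists_cand h hone hL
  simp only [chkCand, Bool.and_eq_true, decide_eq_true_eq, beq_iff_eq] at hcand
  obtain ⟨⟨⟨⟨⟨⟨hroot, hc⟩, he0⟩, hexp⟩, hedge⟩, hsome⟩, hreach⟩ := hcand
  set e : ℕ → ℕ := expL D c l with he
  have hexp1 : ∀ i : Fin D.rank, (e i.val = 1 ∨ e i.val = c) ∧ (c = 1 → expL D 5 l i.val = 1) :=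
    fun i => by
      have := allLt_eq_true hexp i.val i.isLt
      simp only [Bool.and_eq_true, Bool.or_eq_true, beq_iff_eq, bne_iff_ne, ne_eq] at this
      exact ⟨this.1, fun h1 => this.2.resolve_left (not_not_intro h1)⟩
  -- the equation along an edge
  have hE : ∀ i j : Fin D.rank, T.A i.val (sim D j.val) = -1 →
      ∃ m : ℕ, (m = 1 ∨ m = c) ∧ T.A (π i).val (sim D (π j).val) = -(m : ℤ) ∧
        e j.val = e i.val * m ∧ ∀ t, f j t = f i t ^ m := by
    intro i j hA
    have h1 := allLt_eq_true (allLt_eq_true hedge i.val i.isLt) j.val j.isLt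
    simp only [chkEdge, hA, bne_self_eq_false, Bool.false_or, Bool.and_eq_true, decide_eq_true_eq,
      beq_iff_eq, hl] at h1
    obtain ⟨hm, hexp'⟩ := h1
    obtain ⟨m, hm1, hm2⟩ : ∃ m : ℕ, (m = 1 ∨ m = c) ∧
        T.A (π i).val (sim D (π j).val) = -(m : ℤ) := by
      rcases hm with h1 | h1
      · exact ⟨1, Or.inl rfl, by simpa using h1⟩
      · exact ⟨c, Or.inr rfl, h1⟩
    refine ⟨m, hm1, hm2, ?_, fun t => ?_⟩
    · rw [hm2, neg_neg] at hexp'
      exact_mod_cast hexp'
    · by_cases ht : t = 0
      · have : m ≠ 0 := by rcases hm1 with rfl | rfl <;> omega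
        simp [ht, G.act1_zero h, this]
      have hr := G.act1_rel h hone i j (inv_ne_zero ht) 1
      rw [hA, hm2, zpow_neg_one, inv_inv, mul_one, hone, mul_one] at hr
      rw [hr]
      have hinv : f i t⁻¹ = (f i t)⁻¹ :=
        eq_inv_of_mul_eq_one_left (by rw [← G.act1_mult h hone, inv_mul_cancel₀ ht, hone])
      rw [hinv, inv_zpow, zpow_neg, inv_inv, zpow_natCast]
  -- the special exponent is the characteristic
  have hbij : ∀ i, Function.Bijective (f i) := fun i =>
    Finite.injective_iff_bijective.1 (G.act1_inj h i)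
  have hp : c = 1 ∨ (ringChar F = c ∧ Nat.Prime c) ∨ ∀ x : F, x = 0 ∨ x = 1 := by
    simp only [Bool.or_eq_true, beq_iff_eq] at hsome
    rcases hsome with h1 | h1
    · exact Or.inl h1
    obtain ⟨i, hi, h2⟩ := anyLt_eq_true h1
    obtain ⟨j, hj, h3⟩ := anyLt_eq_true h2
    rw [decide_eq_true_eq] at h3
    obtain ⟨m, -, hm, -, hf⟩ := hE ⟨i, hi⟩ ⟨j, hj⟩ h3.1
    have h4 := h3.2
    rw [show l.getD i 0 = (π ⟨i, hi⟩).val from hl ⟨i, hi⟩,
      show l.getD j 0 = (π ⟨j, hj⟩).val from hl ⟨j, hj⟩, hm] at h4
    obtain rfl : m = c := by omega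
    refine additive_power hc fun x y => ?_
    obtain ⟨a, rfl⟩ := (hbij ⟨i, hi⟩).2 x
    obtain ⟨b, rfl⟩ := (hbij ⟨i, hi⟩).2 y
    rw [← G.act1_add h, ← hf, ← hf, ← hf, G.act1_add h]
  have hpinj : ∀ m : ℕ, (m = 1 ∨ m = c) → ∀ x y : F, x ^ m = y ^ m → x = y := by
    intro m hm x y hxy
    rcases hm with rfl | rfl
    · simpa using hxy
    rcases hp with rfl | ⟨hchar, hprime⟩ | h01
    · simpa using hxy
    · haveI := Fact.mk hprime
      haveI : CharP F m := ringChar.of_eq hchar
      exact frobenius_inj F m (by simpa [frobenius_def] using hxy)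
    · have : m ≠ 0 := by omega
      rwa [pow_of_zero_one (h01 x) this, pow_of_zero_one (h01 y) this] at hxy
  let σ : F ≃+* F := RingEquiv.ofBijective
    ({ toFun := f ⟨root, hroot⟩
       map_one' := hone _
       map_mul' := G.act1_mult h hone _
       map_zero' := G.act1_zero h _
       map_add' := G.act1_add h _ } : F →+* F) (hbij _)
  have key : ∀ k, ∀ i ∈ edgeReach D T root k, ∀ hi : i < D.rank, ∀ t,
      f ⟨i, hi⟩ t = σ t ^ e i := by
    intro k
    induction k with
    | zero =>
      intro i hi hlt t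
      simp only [edgeReach, List.mem_singleton] at hi
      subst hi
      rw [he0, pow_one]; rfl
    | succ k ih =>
      intro j hj hjlt t
      simp only [edgeReach, List.mem_append, List.mem_filter, List.any_eq_true, Bool.and_eq_true,
        decide_eq_true_eq] at hj
      rcases hj with hj | ⟨-, i, hiR, hilt, hA | hA⟩
      · exact ih j hj hjlt t
      · obtain ⟨m, -, -, hem, hf⟩ := hE ⟨i, hilt⟩ ⟨j, hjlt⟩ hA
        rw [hf, ih i hiR hilt, ← pow_mul, ← hem]
      · obtain ⟨m, hm, -, hem, hf⟩ := hE ⟨j, hjlt⟩ ⟨i, hilt⟩ hA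
        refine hpinj m hm _ _ ?_
        rw [← hf, ih i hiR hilt, ← pow_mul, ← hem]
  refine ⟨σ, fun i t => ?_⟩
  have hi : i.val ∈ edgeReach D T root D.rank := by simpa using allLt_eq_true hreach i.val i.isLt
  rw [key _ _ hi i.isLt]
  show σ t ^ expL D c l i.val = _
  obtain ⟨hv, h5⟩ := hexp1 i
  simp only [he, expL, hl] at hv h5 ⊢
  by_cases hfix : (π i).val = i.val
  · rw [if_pos hfix, hfix]
    simp [ChevalleyDatum.graphExp]
  rw [if_neg hfix] at hv h5 ⊢
  simp only [ChevalleyDatum.graphExp] at hv h5 ⊢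
  by_cases hb : (D.isLong (D.simple (π i).val) && !D.isLong (D.simple i.val)) = true
  · simp only [hb, if_true] at hv h5 ⊢
    rcases hp with hc1 | ⟨hchar, -⟩ | h01
    · exact absurd (h5 hc1) (by omega)
    · rw [hchar]
    · have h1 : c ≠ 0 := by omega
      have h2 : ringChar F ≠ 0 := CharP.ringChar_ne_zero_of_finite F
      rw [pow_of_zero_one (h01 _) h1, pow_of_zero_one (h01 _) h2]
  · simp only [hb, Bool.false_eq_true, if_false]

/-- The image of the diagram permutation. -/
theorem act1_bonds [Finite F] (h : G.Act1 θ π f) (hone : ∀ i, f i 1 = 1)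
    {L : List (List ℕ × ℕ × ℕ)} (hL : chkCands D T L = true)
    (hsym : ∀ e ∈ L, (allLt D.rank fun i => allLt D.rank fun j => i == j ||
      D.bonds (e.1.getD i 0) (e.1.getD j 0) == D.bonds i j) = true) :
    D.IsDiagramSymmetry π := by
  obtain ⟨e, he, -, hl⟩ := G.exists_cand h hone hL
  intro i j hij
  have h1 := allLt_eq_true (allLt_eq_true (hsym e he) i.val i.isLt) j.val j.isLt
  simp only [Bool.or_eq_true, beq_iff_eq, hl] at h1
  exact h1.resolve_left fun e' => hij (Fin.ext e')

end Good

end Cfsg.Agent.Lib.Chev
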