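import Cfsg.Agent.Lib.Chev.Aut.Decomp
import Cfsg.Agent.Lib.Chev.All

/-!
Steinberg's theorem on the automorphisms of the finite Chevalley groups.
-/

set_option autoImplicit false
set_option linter.unusedSectionVars false
set_option maxRecDepth 100000

namespace Cfsg.Agent.Lib.Chev

open Cfsg.Lie
open scoped Matrix

/-- The diagram symmetries with exponent and base node. -/
def candG2 : List (List ℕ × ℕ × ℕ) := [([0, 1], 1, 0), ([1, 0], 3, 1)]

/-- The diagram symmetries with exponent and base node. -/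
def candB2 : List (List ℕ × ℕ × ℕ) := [([0, 1], 1, 0), ([1, 0], 2, 1)]

/-- The diagram symmetries with exponent and base node. -/
def candD4 : List (List ℕ × ℕ × ℕ) :=
  [([0, 1, 2, 3], 1, 0), ([0, 1, 3, 2], 1, 0), ([2, 1, 0, 3], 1, 0), ([2, 1, 3, 0], 1, 0),
    ([3, 1, 0, 2], 1, 0), ([3, 1, 2, 0], 1, 0)]

/-- The diagram symmetries with exponent and base node. -/
def candF4 : List (List ℕ × ℕ × ℕ) := [([0, 1, 2, 3], 1, 0), ([3, 2, 1, 0], 2, 2)]

/-- The diagram symmetries with exponent and base node. -/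
def candE6 : List (List ℕ × ℕ × ℕ) := [([0, 1, 2, 3, 4, 5], 1, 0), ([5, 1, 4, 3, 2, 0], 1, 0)]

/-- The diagram symmetries with exponent and base node. -/
def candE7 : List (List ℕ × ℕ × ℕ) := [([0, 1, 2, 3, 4, 5, 6], 1, 0)]

/-- The diagram symmetries with exponent and base node. -/
def candE8 : List (List ℕ × ℕ × ℕ) := [([0, 1, 2, 3, 4, 5, 6, 7], 1, 0)]

/-- The candidates preserve the number of bonds. -/
def chkBonds (D : ChevalleyDatum) (L : List (List ℕ × ℕ × ℕ)) : Bool :=
  L.all fun e => allLt D.rank fun i => allLt D.rank fun j =>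
    i == j || D.bonds (e.1.getD i 0) (e.1.getD j 0) == D.bonds i j

theorem candG2_chk : chkCands chevG2 tabG2 candG2 = true := by decide +kernel
theorem candB2_chk : chkCands chevB2 tabB2 candB2 = true := by decide +kernel
theorem candD4_chk : chkCands chevD4 tabD4 candD4 = true := by decide +kernel
theorem candF4_chk : chkCands chevF4 tabF4 candF4 = true := by decide +kernel
theorem candE6_chk : chkCands chevE6 tabE6 candE6 = true := by decide +kernel
theorem candE7_chk : chkCands chevE7 tabE7 candE7 = true := by decide +kernel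
theorem candE8_chk : chkCands chevE8 tabE8 candE8 = true := by decide +kernel

theorem bondsG2 : chkBonds chevG2 candG2 = true := by decide +kernel
theorem bondsB2 : chkBonds chevB2 candB2 = true := by decide +kernel
theorem bondsD4 : chkBonds chevD4 candD4 = true := by decide +kernel
theorem bondsF4 : chkBonds chevF4 candF4 = true := by decide +kernel
theorem bondsE6 : chkBonds chevE6 candE6 = true := by decide +kernel
theorem bondsE7 : chkBonds chevE7 candE7 = true := by decide +kernel
theorem bondsE8 : chkBonds chevE8 candE8 = true := by decide +kernel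

variable {D : ChevalleyDatum} {T : Tables} {F : Type*} [Field F]

namespace Good

variable (G : Good D T)
include G

theorem eq_neg_GX {i : ℕ} (hi : i < D.rank) {t : F} {g : ↥(D.group F)}
    (h : ((g : GL D.Idx F) : Matrix D.Idx D.Idx F) = D.x F (D.neg (D.simple i)) t) :
    g = G.GX F (ng D (sim D i)) t :=
  G.eq_GX (by rwa [G.simple_eq, G.neg_eq (G.sim_lt hi)] at h)

/-- Diagonal times graph times field. -/
theorem decomp [Fintype F] {L : List (List ℕ × ℕ × ℕ)} (hL : chkCands D T L = true)
    (hB : chkBonds D L = true) (hS : chkSign D T = true) {θ : MulAut ↥(D.group F)} (h : Std θ) :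
    ∃ d g f : MulAut ↥(D.group F), D.IsDiagonalAut d ∧ D.IsGraphAut g ∧ D.IsFieldAut f ∧
      θ = d * g * f := by
  obtain ⟨π, q, hq⟩ := G.exists_act hS h
  obtain ⟨d, θ', q', hd, rfl, hact, hone⟩ := G.exists_normalized hq
  obtain ⟨σ, hσ⟩ := G.exists_sigma hact hone hL
  obtain ⟨f, hf, hfa⟩ := G.exists_fieldAut σ
  obtain ⟨f', hf', hfa'⟩ := G.exists_fieldAut σ.symm
  have hff : f' * f = 1 := G.act1_ext (G.act1_mul hfa' hfa) (by
    convert G.act1_one (F := F) using 2
    · simp
    · funext t; simp)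
  refine ⟨d, θ' * f', f, hd, ?_, hf, by rw [mul_assoc, mul_assoc, hff, mul_one]⟩
  have hg := G.act1_mul hact hfa'
  rw [mul_one] at hg
  have hsym := G.act1_bonds hact hone hL fun e he => by
    simp only [chkBonds, List.all_eq_true] at hB
    exact hB e he
  refine ⟨π, hsym, fun y i t => ⟨fun hy => ?_, fun hy => ?_⟩⟩
  · rw [G.eq_GX (show ((y : GL D.Idx F) : Matrix D.Idx D.Idx F) = D.x F (sim D i.val) t by
      rw [hy, G.simple_eq])]
    rw [(hg i t).1, G.GX_val, G.X_val, G.simple_eq]
    simp [hσ]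
  · rw [G.eq_neg_GX i.isLt hy, (hg i t).2, G.GX_val, G.X_val, G.simple_eq,
      G.neg_eq (G.sim_lt (π i).isLt)]
    congr 1
    have hneg : σ (σ.symm (-t⁻¹)) = -t⁻¹ := σ.apply_symm_apply _
    show -(q' ((1 : Equiv.Perm (Fin D.rank)) i) (σ.symm (-t⁻¹)))⁻¹ = _
    rw [Equiv.Perm.one_apply, hσ, hneg]
    have h1 : ((-1 : F)) ^ D.graphExp (ringChar F) i.val (π i).val = -1 := by
      have := hσ i (-1)
      rw [G.act1_neg hact, hone, map_neg, map_one] at this
      exact this.symm
    rw [show -t⁻¹ = (-1 : F) * t⁻¹ by ring, mul_pow, h1, inv_pow, neg_one_mul, inv_neg, inv_inv,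
      neg_neg]

end Good

/-- The datum with its tables and symmetries. -/
theorem exists_good_cands {D : ChevalleyDatum}
    (hD : D ∈ [chevG2, chevB2, chevD4, chevF4, chevE6, chevE7, chevE8]) :
    ∃ T L, Good D T ∧ chkCands D T L = true ∧ chkBonds D L = true ∧ chkSign D T = true := by
  simp only [List.mem_cons, List.not_mem_nil, or_false] at hD
  have key : ∀ {D T}, chkPar D T = true → chkSign D T = true := fun h => by
    simp only [chkPar, Bool.and_eq_true] at h; exact h.1
  rcases hD with rfl | rfl | rfl | rfl | rfl | rfl | rfl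
  exacts [⟨_, _, goodG2, candG2_chk, bondsG2, key parG2⟩, ⟨_, _, goodB2, candB2_chk, bondsB2, key parB2⟩,
    ⟨_, _, goodD4, candD4_chk, bondsD4, key parD4⟩, ⟨_, _, goodF4, candF4_chk, bondsF4, key parF4⟩,
    ⟨_, _, goodE6, candE6_chk, bondsE6, key parE6⟩, ⟨_, _, goodE7, candE7_chk, bondsE7, key parE7⟩,
    ⟨_, _, goodE8, candE8_chk, bondsE8, key parE8⟩]

/-- Steinberg's theorem on automorphisms. -/
theorem steinberg_aut {F : Type*} [Field F] [Finite F] {D : ChevalleyDatum}
    (hD : D ∈ [chevG2, chevB2, chevD4, chevF4, chevE6, chevE7, chevE8])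
    (θ : ↥(D.group F) ≃* ↥(D.group F)) :
    ∃ (x : ↥(D.group F)) (d g f : ↥(D.group F) ≃* ↥(D.group F)),
      D.IsDiagonalAut d ∧ D.IsGraphAut g ∧ D.IsFieldAut f ∧
        ∀ y : ↥(D.group F), θ y = x * d (g (f y)) * x⁻¹ := by
  classical
  haveI := Fintype.ofFinite F
  obtain ⟨T, L, G, hL, hB, hS⟩ := exists_good_cands hD
  obtain ⟨p, hp⟩ := CharP.exists F
  haveI : Fact p.Prime := ⟨CharP.char_is_prime F p⟩
  obtain ⟨x, hx⟩ := G.exists_conj_std p θ
  obtain ⟨d, g, f, hd, hg, hf, e⟩ := G.decomp hL hB hS hx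
  refine ⟨x⁻¹, d, g, f, hd, hg, hf, fun y => ?_⟩
  have h1 : x * θ y * x⁻¹ = d (g (f y)) := DFunLike.congr_fun e y
  rw [← h1]
  group

end Cfsg.Agent.Lib.Chev
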