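import Cfsg.Agent.Lib.Chev.Aut.Perm
import Cfsg.Agent.Lib.Chev.StAut

/-!
Diagonal and field automorphisms, and the parameters of an automorphism on fundamental root groups.
-/

set_option autoImplicit false
set_option linter.unusedSectionVars false

namespace Cfsg.Agent.Lib.Chev

open Cfsg.Lie
open scoped Matrix

variable {D : ChevalleyDatum} {T : Tables} {F : Type*} [Field F]

/-- The character with given values on the fundamental roots. -/
def rchar (T : Tables) (a : Fin D.rank → Fˣ) (r : ℕ) : Fˣ := ∏ j : Fin D.rank, a j ^ T.k j.val r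

namespace Good

variable (G : Good D T)
include G

theorem eq_GX {r : ℕ} {t : F} {g : ↥(D.group F)}
    (h : ((g : GL D.Idx F) : Matrix D.Idx D.Idx F) = D.x F r t) : g = G.GX F r t :=
  Subtype.ext (G.eq_X_of_val h)

/-- Automorphisms agreeing on the fundamental root elements and their negatives are equal. -/
theorem aut_ext {θ φ : MulAut ↥(D.group F)}
    (h : ∀ i < D.rank, ∀ t : F, θ (G.GX F (sim D i) t) = φ (G.GX F (sim D i) t) ∧
      θ (G.GX F (ng D (sim D i)) t) = φ (G.GX F (ng D (sim D i)) t)) : θ = φ := by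
  have hle : D.group F ≤ (MonoidHom.eqLocus θ.toMonoidHom φ.toMonoidHom).map (D.group F).subtype :=
    G.group_le_of_simple fun i hi t =>
      ⟨⟨G.GX F (sim D i) t, (h i hi t).1, rfl⟩, ⟨G.GX F (ng D (sim D i)) t, (h i hi t).2, rfl⟩⟩
  refine MulEquiv.ext fun y => ?_
  obtain ⟨z, hz, e⟩ := hle y.2
  rw [← Subtype.ext (show (z : GL D.Idx F) = y from e)]
  exact hz

variable {θ φ : MulAut ↥(D.group F)} {π π' : Equiv.Perm (Fin D.rank)}
  {f f' : Fin D.rank → F → F}

theorem act1_perm (h : G.Act1 θ π f) (h' : G.Act1 θ π' f') : π = π' := by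
  refine Equiv.ext fun i => Fin.ext (G.sim_inj (π i).isLt (π' i).isLt ?_)
  have e := (h i 1).1.symm.trans (h' i 1).1
  refine G.GX_root_inj (G.sim_lt (π i).isLt) (G.sim_lt (π' i).isLt) ?_ e
  intro h0
  have h1 := (h i 1).1
  rw [h0, G.GX_zero, map_eq_one_iff θ θ.injective, ← G.GX_zero (sim D i.val)] at h1
  exact one_ne_zero (G.GX_injective (G.sim_lt i.isLt) h1)

theorem act1_fun (h : G.Act1 θ π f) (h' : G.Act1 θ π f') : f = f' :=
  funext fun i => funext fun t =>
    G.GX_injective (G.sim_lt (π i).isLt) ((h i t).1.symm.trans (h' i t).1)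

theorem act1_ext (h : G.Act1 θ π f) (h' : G.Act1 φ π f) : θ = φ :=
  G.aut_ext fun i hi t =>
    ⟨((h ⟨i, hi⟩ t).1).trans ((h' ⟨i, hi⟩ t).1).symm, ((h ⟨i, hi⟩ t).2).trans ((h' ⟨i, hi⟩ t).2).symm⟩

theorem act1_mul (h : G.Act1 θ π f) (h' : G.Act1 φ π' f') :
    G.Act1 (θ * φ) (π * π') fun i t => f (π' i) (f' i t) := by
  intro i t
  simp only [MulAut.mul_apply, Equiv.Perm.mul_apply]
  refine ⟨by rw [(h' i t).1, (h (π' i) _).1], ?_⟩
  rw [(h' i t).2, (h (π' i) _).2, inv_neg, inv_inv, neg_neg]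

theorem act1_add (h : G.Act1 θ π f) (i : Fin D.rank) (t u : F) :
    f i (t + u) = f i t + f i u := by
  refine G.GX_injective (G.sim_lt (π i).isLt) ?_
  rw [← (h i _).1, ← G.GX_add, ← G.GX_add, map_mul, (h i t).1, (h i u).1]

theorem act1_zero (h : G.Act1 θ π f) (i : Fin D.rank) : f i 0 = 0 := by
  have := G.act1_add h i 0 0
  rwa [add_zero, left_eq_add] at this

theorem act1_neg (h : G.Act1 θ π f) (i : Fin D.rank) (t : F) : f i (-t) = - f i t :=
  eq_neg_of_add_eq_zero_left (by rw [← G.act1_add h i, neg_add_cancel, G.act1_zero h i])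

theorem act1_inj (h : G.Act1 θ π f) (i : Fin D.rank) : Function.Injective (f i) := fun t u e =>
  G.GX_injective (G.sim_lt i.isLt) (θ.injective (by rw [(h i t).1, (h i u).1, e]))

theorem act1_ne_zero (h : G.Act1 θ π f) (i : Fin D.rank) {t : F} (ht : t ≠ 0) : f i t ≠ 0 :=
  fun e => ht (G.act1_inj h i (e.trans (G.act1_zero h i).symm))

theorem act1_one : G.Act1 (1 : MulAut ↥(D.group F)) 1 fun _ t => t := by
  intro i t
  simp [inv_neg]

/-- An automorphism preserving every root subgroup preserves the two unipotent subgroups. -/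
theorem std_of_signPres [Fintype F]
    (h : ∀ r < D.nroots, ∀ t : F, ∃ s < D.nroots, ∃ u, (npos D ≤ s ↔ npos D ≤ r) ∧
      θ (G.GX F r t) = G.GX F s u) : Std θ := by
  classical
  have key : ∀ (S : Subgroup (GL D.Idx F)), S ≤ D.group F →
      (∀ r < D.nroots, ∀ t : F, θ (G.GX F r t) ∈ S.subgroupOf (D.group F) ∨
        G.X F r t ∉ S) →
      (∀ K : Subgroup (GL D.Idx F), (∀ r < D.nroots, ∀ t : F, G.X F r t ∈ S → G.X F r t ∈ K) →
        S ≤ K) →
      (S.subgroupOf (D.group F)).map θ.toMonoidHom = S.subgroupOf (D.group F) := by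
    intro S hS h1 h2
    refine Subgroup.eq_of_le_of_card_ge ?_ (le_of_eq
      (Subgroup.card_map_of_injective θ.injective).symm)
    rw [Subgroup.map_le_iff_le_comap]
    intro x hx
    have h3 : S ≤ (((S.subgroupOf (D.group F)).comap θ.toMonoidHom)).map (D.group F).subtype := by
      refine h2 _ fun r hr t hmem => ⟨G.GX F r t, ?_, rfl⟩
      rcases h1 r hr t with h4 | h4
      · exact h4
      · exact absurd hmem h4
    obtain ⟨z, hz, e⟩ := h3 hx
    rwa [← Subtype.ext (show (z : GL D.Idx F) = x from e)]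
  constructor
  · refine key _ (le_sup_left.trans G.borel_le_group) (fun r hr t => ?_) fun K hK =>
      G.posUnipotent_le_of fun r hr hp t => hK r hr t (G.X_mem_posUnipotent hr hp t)
    by_cases hp : npos D ≤ r
    · obtain ⟨s, hs, u, hiff, hu⟩ := h r hr t
      exact Or.inl (hu ▸ G.X_mem_posUnipotent hs (hiff.2 hp) u)
    · by_cases ht : t = 0
      · exact Or.inl (by rw [ht, G.GX_zero, map_one]; exact one_mem _)
      refine Or.inr fun hmem => ht ((G.X_eq_one_iff hr t).1 (Subgroup.mem_bot.1 ?_))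
      rw [← G.borel_inf_neg (F := F)]
      exact ⟨Subgroup.mem_sup_left hmem, G.X_mem_negUnipotent hr (Nat.lt_of_not_le hp) t⟩
  · refine key _ ((G.negUnipotent_le_of fun r hr _ t => G.X_mem_group hr t)) (fun r hr t => ?_)
      fun K hK => G.negUnipotent_le_of fun r hr hn t => hK r hr t (G.X_mem_negUnipotent hr hn t)
    by_cases hp : r < npos D
    · obtain ⟨s, hs, u, hiff, hu⟩ := h r hr t
      exact Or.inl (hu ▸ G.X_mem_negUnipotent hs
        (Nat.lt_of_not_le fun e => Nat.not_le_of_lt hp (hiff.1 e)) u)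
    · by_cases ht : t = 0
      · exact Or.inl (by rw [ht, G.GX_zero, map_one]; exact one_mem _)
      refine Or.inr fun hmem => ht ((G.X_eq_one_iff hr t).1 (Subgroup.mem_bot.1 ?_))
      rw [← G.borel_inf_neg (F := F)]
      exact ⟨Subgroup.mem_sup_left (G.X_mem_posUnipotent hr (Nat.le_of_not_lt hp) t), hmem⟩

theorem std_of_rootPres [Fintype F]
    (h : ∀ r < D.nroots, ∀ t : F, ∃ u, θ (G.GX F r t) = G.GX F r u) : Std θ :=
  G.std_of_signPres fun r hr t => (h r hr t).elim fun u hu => ⟨r, hr, u, Iff.rfl, hu⟩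

/-- An automorphism of the group from a pair of inverse endomorphisms of the general linear group. -/
theorem exists_aut_of_gl (φ ψ : GL D.Idx F →* GL D.Idx F)
    (h1 : ∀ r < D.nroots, ∀ t : F, φ (G.X F r t) ∈ D.group F)
    (h2 : ∀ r < D.nroots, ∀ t : F, ψ (G.X F r t) ∈ D.group F)
    (h12 : ∀ g, φ (ψ g) = g) (h21 : ∀ g, ψ (φ g) = g) :
    ∃ α : MulAut ↥(D.group F), ∀ g, ((α g : ↥(D.group F)) : GL D.Idx F) = φ (g : GL D.Idx F) := by
  have e1 : D.group F ≤ (D.group F).comap φ := G.group_le_of h1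
  have e2 : D.group F ≤ (D.group F).comap ψ := G.group_le_of h2
  exact ⟨{ toFun := fun g => ⟨φ g, e1 g.2⟩
           invFun := fun g => ⟨ψ g, e2 g.2⟩
           left_inv := fun g => Subtype.ext (h21 _)
           right_inv := fun g => Subtype.ext (h12 _)
           map_mul' := fun a b => Subtype.ext (map_mul φ _ _) }, fun g => rfl⟩

theorem rchar_sim (a : Fin D.rank → Fˣ) (i : Fin D.rank) : rchar T a (sim D i.val) = a i := by
  rw [rchar, Finset.prod_eq_single i]
  · simp [G.k_sim i.isLt i.isLt]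
  · intro j _ hne
    rw [G.k_sim i.isLt j.isLt, if_neg (fun e => hne (Fin.ext e)), zpow_zero]
  · simp

theorem rchar_isRootCharacter (a : Fin D.rank → Fˣ) : D.IsRootCharacter (rchar T a) := by
  constructor
  · intro r hr
    rw [G.neg_eq hr, rchar, rchar, ← Finset.prod_inv_distrib]
    exact Finset.prod_congr rfl fun j _ => by rw [G.k_ng hr j.isLt, zpow_neg]
  · intro r s k hr hs h
    rw [G.chainRoot_eq hr hs, Tables.chRoot] at h
    obtain ⟨⟨u, M⟩, he, rfl⟩ := Option.map_eq_some_iff.1 h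
    simp only [rchar, ← Finset.prod_mul_distrib, ← zpow_add]
    refine Finset.prod_congr rfl fun j _ => ?_
    rw [(G.ch_entry hr hs he).2.2.2.2.2.1 j.val j.isLt]
    congr 1
    push_cast
    ring

theorem diag_spec (hφ : D.IsDiagonalAut φ) :
    ∃ χ : ℕ → Fˣ, D.IsRootCharacter χ ∧ ∀ r < D.nroots, ∀ t : F,
      φ (G.GX F r t) = G.GX F r ((χ r : F) * t) := by
  obtain ⟨χ, hχ, h⟩ := hφ
  refine ⟨χ, hχ, fun r hr t => G.eq_GX ?_⟩
  rw [h, G.GX_val, G.X_val, G.charDiag_conj_X hχ hr t]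

theorem diag_act (hφ : D.IsDiagonalAut φ) :
    ∃ a : Fin D.rank → Fˣ, G.Act1 φ 1 fun i t => (a i : F) * t := by
  obtain ⟨χ, hχ, h⟩ := G.diag_spec hφ
  refine ⟨fun i => χ (sim D i.val), fun i t => ⟨h _ (G.sim_lt i.isLt) t, ?_⟩⟩
  rw [h _ (G.ng_lt (G.sim_lt i.isLt)) t]
  show _ = G.GX F (ng D (sim D i.val)) _
  congr 1
  rw [← G.neg_eq (G.sim_lt i.isLt), hχ.1 _ (G.sim_lt i.isLt), Units.val_inv_eq_inv_val, mul_inv,
    inv_neg, inv_inv]
  ring

theorem exists_diagAut (a : Fin D.rank → Fˣ) :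
    ∃ φ : MulAut ↥(D.group F), D.IsDiagonalAut φ ∧ G.Act1 φ 1 fun i t => (a i : F) * t := by
  obtain ⟨χ, hχ, hχs⟩ : ∃ χ : ℕ → Fˣ, D.IsRootCharacter χ ∧ ∀ i : Fin D.rank, χ (sim D i.val) = a i :=
    ⟨rchar T a, G.rchar_isRootCharacter a, G.rchar_sim a⟩
  let C : GL D.Idx F :=
    { val := D.charDiag F χ
      inv := D.charDiag F fun r => (χ r)⁻¹
      val_inv := by
        rw [charDiag_eq, charDiag_eq, dmat_mul, ← dmat_one]
        exact dmat_congr fun s _ => by simp
      inv_val := by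
        rw [charDiag_eq, charDiag_eq, dmat_mul, ← dmat_one]
        exact dmat_congr fun s _ => by simp }
  have hC : ∀ r < D.nroots, ∀ t : F, C * G.X F r t * C⁻¹ = G.X F r ((χ r : F) * t) :=
    fun r hr t => G.eq_X_of_val (G.charDiag_conj_X hχ hr t)
  have hC' : ∀ r < D.nroots, ∀ t : F, C⁻¹ * G.X F r t * C = G.X F r ((((χ r)⁻¹ : Fˣ) : F) * t) := by
    intro r hr t
    have h := hC r hr ((((χ r)⁻¹ : Fˣ) : F) * t)
    rw [← mul_assoc, ← Units.val_mul, mul_inv_cancel, Units.val_one, one_mul] at h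
    rw [← h]; group
  obtain ⟨α, hα⟩ := G.exists_aut_of_gl (MulAut.conj C).toMonoidHom (MulAut.conj C⁻¹).toMonoidHom
    (fun r hr t => by
      show C * G.X F r t * C⁻¹ ∈ D.group F
      rw [hC r hr]; exact G.X_mem_group hr _)
    (fun r hr t => by
      show C⁻¹ * G.X F r t * C⁻¹⁻¹ ∈ D.group F
      rw [inv_inv, hC' r hr]; exact G.X_mem_group hr _)
    (fun g => by show C * (C⁻¹ * g * C⁻¹⁻¹) * C⁻¹ = g; group)
    (fun g => by show C⁻¹ * (C * g * C⁻¹) * C⁻¹⁻¹ = g; group)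
  refine ⟨α, ⟨χ, hχ, fun g => by rw [hα g]; rfl⟩, fun i t => ⟨Subtype.ext ?_, Subtype.ext ?_⟩⟩
  · rw [hα, G.GX_val]
    show C * G.X F (sim D i.val) t * C⁻¹ = _
    rw [hC _ (G.sim_lt i.isLt), hχs i]
    rfl
  · rw [hα, G.GX_val]
    show C * G.X F (ng D (sim D i.val)) t * C⁻¹ = G.X F (ng D (sim D i.val)) _
    rw [hC _ (G.ng_lt (G.sim_lt i.isLt)), ← G.neg_eq (G.sim_lt i.isLt),
      hχ.1 _ (G.sim_lt i.isLt), hχs i, Units.val_inv_eq_inv_val]
    congr 1
    simp [mul_inv, inv_neg, inv_inv, mul_comm]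

theorem diag_of_act {a : Fin D.rank → Fˣ} (h : G.Act1 θ 1 fun i t => (a i : F) * t) :
    D.IsDiagonalAut θ := by
  obtain ⟨α, hα, hact⟩ := G.exists_diagAut a
  rwa [G.act1_ext h hact]

theorem field_spec (hφ : D.IsFieldAut φ) :
    ∃ σ : F ≃+* F, ∀ r < D.nroots, ∀ t : F, φ (G.GX F r t) = G.GX F r (σ t) := by
  obtain ⟨σ, h⟩ := hφ
  exact ⟨σ, fun r hr t => G.eq_GX (h _ r t hr (G.X_val r t))⟩

theorem field_act (hφ : D.IsFieldAut φ) : ∃ σ : F ≃+* F, G.Act1 φ 1 fun _ t => σ t := by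
  obtain ⟨σ, h⟩ := G.field_spec hφ
  refine ⟨σ, fun i t => ⟨h _ (G.sim_lt i.isLt) t, ?_⟩⟩
  rw [h _ (G.ng_lt (G.sim_lt i.isLt)) t]
  show _ = G.GX F (ng D (sim D i.val)) _
  congr 1
  simp [inv_neg, map_neg, map_inv₀]

theorem exists_fieldAut (σ : F ≃+* F) :
    ∃ φ : MulAut ↥(D.group F), D.IsFieldAut φ ∧ G.Act1 φ 1 fun _ t => σ t := by
  obtain ⟨α, hα⟩ := G.exists_aut_of_gl (Good.fieldMap (D := D) σ.toRingHom)
    (Good.fieldMap (D := D) σ.symm.toRingHom)
    (fun r hr t => by rw [G.fieldMap_X]; exact G.X_mem_group hr _)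
    (fun r hr t => by rw [G.fieldMap_X]; exact G.X_mem_group hr _)
    (fun g => Units.ext (Matrix.ext fun x y => σ.apply_symm_apply _))
    (fun g => Units.ext (Matrix.ext fun x y => σ.symm_apply_apply _))
  have h : ∀ r, ∀ t : F, α (G.GX F r t) = G.GX F r (σ t) := fun r t =>
    Subtype.ext (by rw [hα, G.GX_val, G.fieldMap_X]; rfl)
  refine ⟨α, ⟨σ, fun g r t hr e => ?_⟩, fun i t => ⟨h _ t, ?_⟩⟩
  · rw [G.eq_GX e, h]; rfl
  · rw [h]
    show _ = G.GX F (ng D (sim D i.val)) _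
    congr 1
    simp [inv_neg, map_neg, map_inv₀]

theorem field_of_act {σ : F ≃+* F} (h : G.Act1 θ 1 fun _ t => σ t) : D.IsFieldAut θ := by
  obtain ⟨α, hα, hact⟩ := G.exists_fieldAut σ
  rwa [G.act1_ext h hact]

theorem diag_std [Fintype F] (hφ : D.IsDiagonalAut φ) : Std φ := by
  obtain ⟨χ, -, h⟩ := G.diag_spec hφ
  exact G.std_of_rootPres fun r hr t => ⟨_, h r hr t⟩

theorem field_std [Fintype F] (hφ : D.IsFieldAut φ) : Std φ := by
  obtain ⟨σ, h⟩ := G.field_spec hφ
  exact G.std_of_rootPres fun r hr t => ⟨_, h r hr t⟩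

/-- `n_r(t)` inside the group. -/
def NI (F : Type*) [Field F] (r : ℕ) (t : F) : ↥(D.group F) :=
  G.GX F r t * G.GX F (ng D r) (-t⁻¹) * G.GX F r t

/-- `h_r(t)` inside the group. -/
def HI (F : Type*) [Field F] (r : ℕ) (t : F) : ↥(D.group F) := G.NI F r t * G.NI F r (-1)

theorem HI_val (r : ℕ) (t : F) : ((G.HI F r t : ↥(D.group F)) : GL D.Idx F) = G.Hg F r t := rfl

theorem NI_val (r : ℕ) (t : F) : ((G.NI F r t : ↥(D.group F)) : GL D.Idx F) = G.Ng F r t := rfl

theorem act1_NI (h : G.Act1 θ π f) (i : Fin D.rank) (t : F) :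
    θ (G.NI F (sim D i.val) t) = G.NI F (sim D (π i).val) (f i t) := by
  simp only [Good.NI, map_mul, (h i t).1, (h i (-t⁻¹)).2]
  rw [inv_neg, inv_inv, neg_neg]

theorem act1_HI (h : G.Act1 θ π f) (hone : ∀ i, f i 1 = 1) (i : Fin D.rank) (t : F) :
    θ (G.HI F (sim D i.val) t) = G.HI F (sim D (π i).val) (f i t) := by
  rw [Good.HI, map_mul, G.act1_NI h, G.act1_NI h, G.act1_neg h, hone]
  rfl

/-- The torus relation between the parameters. -/
theorem act1_rel (h : G.Act1 θ π f) (hone : ∀ i, f i 1 = 1) (i j : Fin D.rank) {t : F}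
    (ht : t ≠ 0) (u : F) :
    f j (t ^ T.A i.val (sim D j.val) * u) =
      f i t ^ T.A (π i).val (sim D (π j).val) * f j u := by
  have key : ∀ (i j : Fin D.rank) {t : F}, t ≠ 0 → ∀ u : F,
      G.HI F (sim D i.val) t * G.GX F (sim D j.val) u * (G.HI F (sim D i.val) t)⁻¹ =
        G.GX F (sim D j.val) (t ^ T.A i.val (sim D j.val) * u) := fun i j t ht u =>
    Subtype.ext (by
      show G.Hg F (sim D i.val) t * G.X F (sim D j.val) u * (G.Hg F (sim D i.val) t)⁻¹ = _
      rw [G.Hg_conj_X (G.sim_lt i.isLt) (G.sim_lt j.isLt) ht, G.P_sim i.isLt]; rfl)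
  have h1 := congrArg θ (key i j ht u)
  rw [map_mul, map_mul, map_inv, G.act1_HI h hone, (h j u).1, (h j _).1,
    key (π i) (π j) (G.act1_ne_zero h i ht)] at h1
  exact (G.GX_injective (G.sim_lt (π j).isLt) h1).symm

theorem act1_mult [Finite F] (h : G.Act1 θ π f) (hone : ∀ i, f i 1 = 1) (i : Fin D.rank)
    (t u : F) : f i (t * u) = f i t * f i u := by
  have hsq : ∀ t u : F, f i (t ^ 2 * u) = f i t ^ 2 * f i u := by
    intro t u
    by_cases ht : t = 0
    · simp [ht, G.act1_zero h]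
    have := G.act1_rel h hone i i ht u
    rwa [G.A_sim i.isLt, G.A_sim (π i).isLt, zpow_two, zpow_two, ← pow_two, ← pow_two] at this
  by_cases h2 : (2 : F) = 0
  · haveI : CharP F 2 := CharTwo.of_one_ne_zero_of_two_eq_zero one_ne_zero h2
    haveI := Fintype.ofFinite F
    obtain ⟨s, hs⟩ := (bijective_frobenius F 2).2 t
    rw [frobenius_def] at hs
    rw [← hs, hsq, show f i (s ^ 2) = f i s ^ 2 from by
      have := hsq s 1; rwa [mul_one, hone, mul_one] at this]
  · have hsq1 : ∀ t : F, f i (t ^ 2) = f i t ^ 2 := fun t => by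
      have := hsq t 1; rwa [mul_one, hone, mul_one] at this
    have e : (t + u) ^ 2 = t ^ 2 + (t * u + t * u) + u ^ 2 := by ring
    have h3 := hsq1 (t + u)
    rw [e, G.act1_add h, G.act1_add h, G.act1_add h, G.act1_add h, hsq1, hsq1] at h3
    refine mul_left_cancel₀ h2 ?_
    linear_combination h3

/-- Adjacency is preserved. -/
theorem act1_adj (h : G.Act1 θ π f) (hone : ∀ i, f i 1 = 1) (i j : Fin D.rank) :
    T.A i.val (sim D j.val) = 0 ↔ T.A (π i).val (sim D (π j).val) = 0 := by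
  have hw : ∀ (i j : Fin D.rank), T.A i.val (sim D j.val) = 0 ↔
      T.w i.val (sim D j.val) = sim D j.val := by
    intro i j
    have hk := fun m (hm : m < D.rank) => G.k_w i.isLt (G.sim_lt j.isLt) hm
    constructor
    · intro h0
      refine G.eq_of_k_eq (G.w_lt i.isLt (G.sim_lt j.isLt)) (G.sim_lt j.isLt) fun m hm => ?_
      rw [hk m hm, h0]; simp
    · intro e
      have h1 := hk i.val i.isLt
      rw [e, if_pos rfl] at h1
      omega
  have hN : ∀ (i j : Fin D.rank) (ε : F),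
      G.NI F (sim D i.val) 1 * G.GX F (sim D j.val) ε * (G.NI F (sim D i.val) 1)⁻¹ =
        G.GX F (T.w i.val (sim D j.val)) ((T.eta i.val (sim D j.val) : F) * ε) := fun i j ε =>
    Subtype.ext (G.ni_conj_X i.isLt (G.sim_lt j.isLt) ε)
  have heta : ∀ (i : ℕ) (s : ℕ), (T.eta i s : F) ≠ 0 := fun i s => by
    rcases T.eta_eq_or i s with e | e <;> simp [e]
  have key : ∀ η : ℤ, (η = 1 ∨ η = -1) → f j (η : F) = (η : F) := by
    rintro η (rfl | rfl)
    · simpa using hone j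
    · simp [G.act1_neg h, hone]
  have himg : θ (G.NI F (sim D i.val) 1 * G.GX F (sim D j.val) 1 * (G.NI F (sim D i.val) 1)⁻¹) =
      G.GX F (T.w (π i).val (sim D (π j).val)) ((T.eta (π i).val (sim D (π j).val) : F) * 1) := by
    rw [map_mul, map_mul, map_inv, G.act1_NI h, (h j 1).1, hone, hone, hN]
  rw [hN, mul_one, mul_one] at himg
  constructor
  · intro h0
    rw [(hw i j).1 h0, (h j _).1] at himg
    exact (hw (π i) (π j)).2 (G.GX_root_inj (G.sim_lt (π j).isLt)
      (G.w_lt (π i).isLt (G.sim_lt (π j).isLt)) (G.act1_ne_zero h j (heta _ _)) himg).symm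
  · intro h0
    rw [(hw (π i) (π j)).1 h0, ← key _ (T.eta_eq_or (π i).val (sim D (π j).val)), ← (h j _).1] at himg
    exact (hw i j).2 (G.GX_root_inj (G.w_lt i.isLt (G.sim_lt j.isLt)) (G.sim_lt j.isLt)
      (heta _ _) (θ.injective himg))

theorem exists_normalized (h : G.Act1 θ π f) :
    ∃ (d θ' : MulAut ↥(D.group F)) (f' : Fin D.rank → F → F),
      D.IsDiagonalAut d ∧ θ = d * θ' ∧ G.Act1 θ' π f' ∧ ∀ i, f' i 1 = 1 := by
  let a : Fin D.rank → Fˣ := fun k => Units.mk0 (f (π.symm k) 1) (G.act1_ne_zero h _ one_ne_zero)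
  obtain ⟨d, hd, hda⟩ := G.exists_diagAut a
  obtain ⟨d', hd', hda'⟩ := G.exists_diagAut (fun k => (a k)⁻¹)
  have hdd : d * d' = 1 := G.act1_ext (G.act1_mul hda hda') (by
    convert G.act1_one (F := F) using 2
    · simp
    · funext t
      simp)
  refine ⟨d, d' * θ, fun i t => (((a (π i))⁻¹ : Fˣ) : F) * f i t, hd,
    by rw [← mul_assoc, hdd, one_mul], ?_, fun i => ?_⟩
  · have h1 := G.act1_mul hda' h
    rwa [one_mul] at h1
  · show (((a (π i))⁻¹ : Fˣ) : F) * f i 1 = 1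
    have : (a (π i) : F) = f i 1 := by simp [a]
    rw [← this, ← Units.val_mul, inv_mul_cancel, Units.val_one]

end Good

end Cfsg.Agent.Lib.Chev
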