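import Cfsg.Agent.Lib.Chev.AutData

/-!
The table of a graph symmetry of order two of D4.
-/

set_option autoImplicit false
set_option maxRecDepth 100000

namespace Cfsg.Agent.Lib.Chev

open Cfsg.Lie

/-- The table of the symmetry of D4 exchanging the last two nodes. -/
def autD4c : AutTab where
  p := 0
  ord := 2
  rhoL := [0, 1, 3, 2, 4, 5, 6, 8, 7, 9, 11, 10, 13, 12, 14, 16, 15, 17, 18, 19, 21, 20, 22, 23]
  exL := [1, 1, 1, 1, 1, 1, 1, 1, 1, 1, 1, 1, 1, 1, 1, 1, 1, 1, 1, 1, 1, 1, 1, 1]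
  epsL := [1, 1, 1, 1, 1, 1, 1, 1, 1, 1, 1, 1, 1, 1, 1, 1, 1, 1, 1, 1, 1, 1, 1, 1]

theorem autD4c_chk : autD4c.chk chevD4 tabD4 = true := by decide +kernel

end Cfsg.Agent.Lib.Chev
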