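import Cfsg.Agent.Lib.Chev.Aut.Main
import Cfsg.Agent.Lib.Chev.Aut.Tables
import Cfsg.Prelude.Def_KGroupFacts

/-!
The outer automorphism groups of the finite Chevalley groups.
-/

set_option autoImplicit false
set_option linter.unusedSectionVars false
set_option linter.style.haveILetI false

namespace Cfsg.Agent.Lib.Chev

open Cfsg.Lie
open scoped Matrix

variable {D : ChevalleyDatum} {T : Tables} {F : Type*} [Field F]

/-- A table preserving positivity and sending fundamental roots to fundamental roots. -/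
def chkGraph (D : ChevalleyDatum) (S : AutTab) (l : List ℕ) : Bool :=
  allLt D.nroots (fun r => decide (npos D ≤ r) == decide (npos D ≤ S.rho r)) &&
  allLt D.rank fun i => decide (l.getD i 0 < D.rank) && (S.rho (sim D i) == sim D (l.getD i 0)) &&
    (S.eps (sim D i) == 1) && allLt D.rank fun j => (l.getD i 0 != l.getD j 0) || i == j

theorem isCyclic_ringAut [Fintype F] (p : ℕ) [Fact p.Prime] [CharP F p] : IsCyclic (F ≃+* F) := by
  letI := ZMod.algebra F p
  refine isCyclic_of_surjective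
    ({ toFun := fun σ => σ.toRingEquiv
       map_one' := rfl
       map_mul' := fun _ _ => rfl } : (F ≃ₐ[ZMod p] F) →* (F ≃+* F)) fun σ => ?_
  exact ⟨AlgEquiv.ofRingEquiv (f := σ) fun x => by
    rw [show σ (algebraMap (ZMod p) F x) = σ.toRingHom.comp (algebraMap (ZMod p) F) x from rfl,
      RingHom.ext_zmod (σ.toRingHom.comp (algebraMap (ZMod p) F)) (algebraMap (ZMod p) F)],
    RingEquiv.ext fun _ => rfl⟩

theorem card_ringAut [Fintype F] {p f : ℕ} [Fact p.Prime] [CharP F p]
    (hF : Fintype.card F = p ^ f) : Nat.card (F ≃+* F) = f := by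
  letI := ZMod.algebra F p
  let e : (F ≃ₐ[ZMod p] F) ≃ (F ≃+* F) :=
    { toFun := fun σ => σ.toRingEquiv
      invFun := fun σ => AlgEquiv.ofRingEquiv (f := σ) fun x => by
        rw [show σ (algebraMap (ZMod p) F x) = σ.toRingHom.comp (algebraMap (ZMod p) F) x from rfl,
          RingHom.ext_zmod (σ.toRingHom.comp (algebraMap (ZMod p) F)) (algebraMap (ZMod p) F)]
      left_inv := fun σ => AlgEquiv.ext fun _ => rfl
      right_inv := fun σ => RingEquiv.ext fun _ => rfl }
  rw [← Nat.card_congr e, IsGalois.card_aut_eq_finrank]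
  have h := Module.natCard_eq_pow_finrank (K := ZMod p) (V := F)
  rw [Nat.card_eq_fintype_card, Nat.card_zmod, hF] at h
  exact (Nat.pow_right_injective (Fact.out : p.Prime).two_le h).symm

namespace Good

variable (G : Good D T)
include G

/-- Conjugation by a diagonal element is linear on the fundamental root elements. -/
theorem diag_conj_act {h : ↥(D.group F)} (hh : (h : GL D.Idx F) ∈ D.diagonalSubgroup F) :
    ∃ a : Fin D.rank → Fˣ, G.Act1 (MulAut.conj h) 1 fun i t => (a i : F) * t := by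
  rw [← G.torHom_range] at hh
  obtain ⟨c, hc⟩ := hh
  have hχ := G.isChar_tor (F := F) (c := extOne D c) fun j _ => extOne_ne_zero c j
  have key : ∀ r < D.nroots, ∀ t : F,
      MulAut.conj h (G.GX F r t) = G.GX F r (tor D T (extOne D c) r * t) := fun r hr t =>
    Subtype.ext (by
      show (h : GL D.Idx F) * G.X F r t * (h : GL D.Idx F)⁻¹ = _
      rw [← hc, G.diag_conj_X (G.torHom_val c) hχ hr]; rfl)
  refine ⟨fun i => Units.mk0 _ (hχ.ne_zero (G.sim_lt i.isLt)), fun i t =>
    ⟨key _ (G.sim_lt i.isLt) t, ?_⟩⟩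
  rw [key _ (G.ng_lt (G.sim_lt i.isLt)) t]
  show _ = G.GX F (ng D (sim D i.val)) _
  congr 1
  have h1 := hχ.neg _ (G.sim_lt i.isLt)
  simp only [eq_inv_of_mul_eq_one_left h1, Units.val_mk0, mul_inv, inv_neg, inv_inv]
  ring

theorem mem_diag_of_std {x : ↥(D.group F)} (h : Std (MulAut.conj x)) :
    (x : GL D.Idx F) ∈ D.diagonalSubgroup F := by
  refine G.mem_diag_of_normalizes (fun u hu => ?_) fun u hu => ?_
  · have hg : u ∈ D.group F := G.borel_le_group (Subgroup.mem_sup_left hu)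
    have h1 : MulAut.conj x ⟨u, hg⟩ ∈ (upIn D F).map (MulAut.conj x).toMonoidHom :=
      Subgroup.mem_map_of_mem _ hu
    rw [h.1] at h1
    exact h1
  · have hg : u ∈ D.group F := G.negUnipotent_le_of (fun r hr _ t => G.X_mem_group hr t) hu
    have h1 : MulAut.conj x ⟨u, hg⟩ ∈ (umIn D F).map (MulAut.conj x).toMonoidHom :=
      Subgroup.mem_map_of_mem _ hu
    rw [h.2] at h1
    exact h1

/-- The permutation of the diagram attached to an automorphism. -/
def RhoIs (θ : MulAut ↥(D.group F)) (π : Equiv.Perm (Fin D.rank)) : Prop :=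
  ∃ x f, Std (MulAut.conj x * θ) ∧ G.Act1 (MulAut.conj x * θ) π f

theorem rhoIs_exists [Finite F] (hS : chkSign D T = true) (θ : MulAut ↥(D.group F)) :
    ∃ π, G.RhoIs θ π := by
  haveI := Fintype.ofFinite F
  obtain ⟨p, hp⟩ := CharP.exists F
  haveI : Fact p.Prime := ⟨CharP.char_is_prime F p⟩
  obtain ⟨x, hx⟩ := G.exists_conj_std p θ
  obtain ⟨π, f, h⟩ := G.exists_act hS hx
  exact ⟨π, x, f, hx, h⟩

theorem rhoIs_unique {θ : MulAut ↥(D.group F)} {π π' : Equiv.Perm (Fin D.rank)}
    (h : G.RhoIs θ π) (h' : G.RhoIs θ π') : π = π' := by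
  obtain ⟨x, f, hx, ha⟩ := h
  obtain ⟨y, g, hy, hb⟩ := h'
  have e : MulAut.conj y * θ = MulAut.conj (y * x⁻¹) * (MulAut.conj x * θ) := by
    rw [← mul_assoc, ← map_mul, inv_mul_cancel_right]
  have hstd : Std (MulAut.conj (y * x⁻¹)) := by
    have := hy.mul hx.inv
    rwa [e, mul_assoc, mul_inv_cancel, mul_one] at this
  obtain ⟨a, hac⟩ := G.diag_conj_act (G.mem_diag_of_std hstd)
  rw [e] at hb
  have h1 := G.act1_perm (G.act1_mul hac ha) hb
  rwa [one_mul] at h1

theorem rhoIs_mul {θ φ : MulAut ↥(D.group F)} {π π' : Equiv.Perm (Fin D.rank)}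
    (h : G.RhoIs θ π) (h' : G.RhoIs φ π') : G.RhoIs (θ * φ) (π * π') := by
  obtain ⟨x, f, hx, ha⟩ := h
  obtain ⟨y, g, hy, hb⟩ := h'
  have e : MulAut.conj (x * θ y) * (θ * φ) = (MulAut.conj x * θ) * (MulAut.conj y * φ) :=
    MulEquiv.ext fun z => by simp [map_mul, map_inv, mul_assoc]
  refine ⟨x * θ y, fun i t => f (π' i) (g i t), ?_, ?_⟩
  · rw [e]; exact hx.mul hy
  · rw [e]; exact G.act1_mul ha hb

/-- The homomorphism to the diagram permutations. -/
noncomputable def rho (F : Type*) [Field F] [Finite F] (hS : chkSign D T = true) :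
    MulAut ↥(D.group F) →* Equiv.Perm (Fin D.rank) :=
  MonoidHom.mk' (fun θ => (G.rhoIs_exists hS θ).choose) fun θ φ =>
    G.rhoIs_unique (G.rhoIs_exists hS _).choose_spec
      (G.rhoIs_mul (G.rhoIs_exists hS θ).choose_spec (G.rhoIs_exists hS φ).choose_spec)

theorem rho_spec [Finite F] (hS : chkSign D T = true) (θ : MulAut ↥(D.group F)) :
    G.RhoIs θ (G.rho F hS θ) := (G.rhoIs_exists hS θ).choose_spec

theorem rho_eq [Finite F] (hS : chkSign D T = true) {θ : MulAut ↥(D.group F)}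
    {π : Equiv.Perm (Fin D.rank)} (h : G.RhoIs θ π) : G.rho F hS θ = π :=
  G.rhoIs_unique (G.rho_spec hS θ) h

theorem rho_of_std [Finite F] (hS : chkSign D T = true) {θ : MulAut ↥(D.group F)}
    {π : Equiv.Perm (Fin D.rank)} {f : Fin D.rank → F → F} (h : Std θ) (ha : G.Act1 θ π f) :
    G.rho F hS θ = π :=
  G.rho_eq hS ⟨1, f, by rwa [map_one, one_mul], by rwa [map_one, one_mul]⟩

theorem inn_le_rho [Finite F] (hS : chkSign D T = true) :
    Cfsg.Inn ↥(D.group F) ≤ (G.rho F hS).ker := by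
  rintro _ ⟨x, rfl⟩
  refine G.rho_eq hS ⟨x⁻¹, fun _ t => t, ?_, ?_⟩
  · rw [← map_mul, inv_mul_cancel, map_one]; exact std_one
  · rw [← map_mul, inv_mul_cancel, map_one]; exact G.act1_one

/-- The diagonal automorphisms as a homomorphism. -/
noncomputable def dHom (F : Type*) [Field F] : (Fin D.rank → Fˣ) →* MulAut ↥(D.group F) :=
  MonoidHom.mk' (fun a => (G.exists_diagAut a).choose) fun a b => by
    refine G.act1_ext (G.exists_diagAut (a * b)).choose_spec.2 ?_
    convert G.act1_mul (G.exists_diagAut a).choose_spec.2 (G.exists_diagAut b).choose_spec.2 using 1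
    · simp
    · funext i t; simp [mul_assoc]

theorem dHom_act (a : Fin D.rank → Fˣ) : G.Act1 (G.dHom F a) 1 fun i t => (a i : F) * t :=
  (G.exists_diagAut a).choose_spec.2

theorem dHom_range :
    Set.range (G.dHom F) = {φ : MulAut ↥(D.group F) | D.IsDiagonalAut φ} := by
  ext φ
  constructor
  · rintro ⟨a, rfl⟩; exact (G.exists_diagAut a).choose_spec.1
  · intro hφ
    obtain ⟨a, ha⟩ := G.diag_act hφ
    exact ⟨a, G.act1_ext (G.dHom_act a) ha⟩

/-- The field automorphisms as a homomorphism. -/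
noncomputable def fHom (F : Type*) [Field F] : (F ≃+* F) →* MulAut ↥(D.group F) :=
  MonoidHom.mk' (fun σ => (G.exists_fieldAut σ).choose) fun σ τ => by
    refine G.act1_ext (G.exists_fieldAut (σ * τ)).choose_spec.2 ?_
    convert G.act1_mul (G.exists_fieldAut σ).choose_spec.2 (G.exists_fieldAut τ).choose_spec.2
      using 1
    · simp
    · funext i t; rfl

theorem fHom_act (σ : F ≃+* F) : G.Act1 (G.fHom F σ) 1 fun _ t => σ t :=
  (G.exists_fieldAut σ).choose_spec.2

theorem fHom_range :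
    Set.range (G.fHom F) = {φ : MulAut ↥(D.group F) | D.IsFieldAut φ} := by
  ext φ
  constructor
  · rintro ⟨σ, rfl⟩; exact (G.exists_fieldAut σ).choose_spec.1
  · intro hφ
    obtain ⟨σ, hσ⟩ := G.field_act hφ
    exact ⟨σ, G.act1_ext (G.fHom_act σ) hσ⟩

/-- The diagonal automorphisms in the outer automorphism group. -/
noncomputable def qD (F : Type*) [Field F] : (Fin D.rank → Fˣ) →* Cfsg.Out ↥(D.group F) :=
  (QuotientGroup.mk' (Cfsg.Inn ↥(D.group F))).comp (G.dHom F)

/-- The field automorphisms in the outer automorphism group. -/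
noncomputable def qF (F : Type*) [Field F] : (F ≃+* F) →* Cfsg.Out ↥(D.group F) :=
  (QuotientGroup.mk' (Cfsg.Inn ↥(D.group F))).comp (G.fHom F)

theorem qD_range : (Subgroup.closure {φ : MulAut ↥(D.group F) | D.IsDiagonalAut φ}).map
    (QuotientGroup.mk' (Cfsg.Inn ↥(D.group F))) = (G.qD F).range := by
  rw [← G.dHom_range, ← MonoidHom.coe_range, Subgroup.closure_eq, MonoidHom.map_range]
  rfl

theorem qF_range : (Subgroup.closure {φ : MulAut ↥(D.group F) | D.IsFieldAut φ}).map
    (QuotientGroup.mk' (Cfsg.Inn ↥(D.group F))) = (G.qF F).range := by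
  rw [← G.fHom_range, ← MonoidHom.coe_range, Subgroup.closure_eq, MonoidHom.map_range]
  rfl

omit G in
theorem mk_conj (x : ↥(D.group F)) :
    QuotientGroup.mk' (Cfsg.Inn ↥(D.group F)) (MulAut.conj x) = 1 :=
  (QuotientGroup.eq_one_iff _).2 ⟨x, rfl⟩

theorem qD_range_normal [Finite F] (hS : chkSign D T = true) : (G.qD F).range.Normal := by
  classical
  constructor
  rintro _ ⟨a, rfl⟩ g
  obtain ⟨θ, rfl⟩ := QuotientGroup.mk'_surjective (Cfsg.Inn ↥(D.group F)) g
  obtain ⟨x, f, hx, ha⟩ := G.rho_spec hS θ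
  set π := G.rho F hS θ
  obtain ⟨d, θ', f', hd, e, hact, hone⟩ := G.exists_normalized ha
  obtain ⟨a0, rfl⟩ : d ∈ Set.range (G.dHom F) := (G.dHom_range (F := F)).symm ▸ hd
  let b : Fin D.rank → Fˣ := fun k =>
    Units.mk0 (f' (π.symm k) (a (π.symm k) : F)) (G.act1_ne_zero hact _ (Units.ne_zero _))
  have key : θ' * G.dHom F a = G.dHom F b * θ' := by
    refine G.act1_ext (G.act1_mul hact (G.dHom_act a)) ?_
    convert G.act1_mul (G.dHom_act b) hact using 1
    · simp
    · funext i t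
      simp [b, G.act1_mult hact hone]
  have hq : QuotientGroup.mk' (Cfsg.Inn ↥(D.group F)) θ =
      G.qD F a0 * QuotientGroup.mk' (Cfsg.Inn ↥(D.group F)) θ' := by
    have h1 := congrArg (QuotientGroup.mk' (Cfsg.Inn ↥(D.group F))) e
    rwa [map_mul, map_mul, mk_conj (D := D) (F := F) x, one_mul] at h1
  have key' : QuotientGroup.mk' (Cfsg.Inn ↥(D.group F)) θ' * G.qD F a =
      G.qD F b * QuotientGroup.mk' (Cfsg.Inn ↥(D.group F)) θ' := by
    simp only [qD, MonoidHom.comp_apply, ← map_mul, key]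
  refine ⟨b, ?_⟩
  rw [hq, mul_inv_rev]
  calc G.qD F b = G.qD F a0 * G.qD F b * (G.qD F a0)⁻¹ := by
        rw [← map_mul, mul_comm a0 b, map_mul, mul_inv_cancel_right]
    _ = G.qD F a0 * (G.qD F b * QuotientGroup.mk' (Cfsg.Inn ↥(D.group F)) θ') *
          ((QuotientGroup.mk' (Cfsg.Inn ↥(D.group F)) θ')⁻¹ * (G.qD F a0)⁻¹) := by group
    _ = _ := by rw [← key']; group

/-- The homomorphism from the outer automorphism group to the diagram permutations. -/
noncomputable def rhoBar (F : Type*) [Field F] [Finite F] (hS : chkSign D T = true) :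
    Cfsg.Out ↥(D.group F) →* Equiv.Perm (Fin D.rank) :=
  QuotientGroup.lift (Cfsg.Inn ↥(D.group F)) (G.rho F hS) (G.inn_le_rho hS)

theorem rhoBar_range [Finite F] (hS : chkSign D T = true) :
    (G.rhoBar F hS).range = (G.rho F hS).range := by
  ext π
  constructor
  · rintro ⟨g, rfl⟩
    obtain ⟨θ, rfl⟩ := QuotientGroup.mk'_surjective (Cfsg.Inn ↥(D.group F)) g
    exact ⟨θ, rfl⟩
  · rintro ⟨θ, rfl⟩
    exact ⟨QuotientGroup.mk' _ θ, rfl⟩

theorem rhoBar_ker [Finite F] (hS : chkSign D T = true) {L : List (List ℕ × ℕ × ℕ)}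
    (hL : chkCands D T L = true) :
    (G.rhoBar F hS).ker = (G.qD F).range ⊔ (G.qF F).range := by
  haveI := Fintype.ofFinite F
  refine le_antisymm ?_ (sup_le ?_ ?_)
  · intro g hg
    obtain ⟨θ, rfl⟩ := QuotientGroup.mk'_surjective (Cfsg.Inn ↥(D.group F)) g
    have h1 : G.rho F hS θ = 1 := hg
    obtain ⟨x, f, hx, ha⟩ := G.rho_spec hS θ
    rw [h1] at ha
    obtain ⟨d, θ', f', hd, e, hact, hone⟩ := G.exists_normalized ha
    obtain ⟨a, rfl⟩ : d ∈ Set.range (G.dHom F) := (G.dHom_range (F := F)).symm ▸ hd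
    obtain ⟨σ, hσ⟩ := G.exists_sigma hact hone hL
    have hf : θ' = G.fHom F σ := G.act1_ext hact (by
      convert G.fHom_act σ using 1
      funext i t
      rw [hσ]
      simp [ChevalleyDatum.graphExp])
    have h2 := congrArg (QuotientGroup.mk' (Cfsg.Inn ↥(D.group F))) e
    rw [map_mul, map_mul, mk_conj (D := D) (F := F) x, one_mul] at h2
    rw [h2, hf]
    exact mul_mem (Subgroup.mem_sup_left ⟨a, rfl⟩) (Subgroup.mem_sup_right ⟨σ, rfl⟩)
  · rintro _ ⟨a, rfl⟩
    exact G.rho_of_std hS (G.diag_std (G.exists_diagAut a).choose_spec.1) (G.dHom_act a)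
  · rintro _ ⟨σ, rfl⟩
    exact G.rho_of_std hS (G.field_std (G.exists_fieldAut σ).choose_spec.1) (G.fHom_act σ)

theorem qD_eq_qF [Fintype F] (hr : 0 < D.rank) {a : Fin D.rank → Fˣ} {σ : F ≃+* F}
    (h : G.qD F a = G.qF F σ) : σ = 1 := by
  obtain ⟨x, hx⟩ := (QuotientGroup.eq.1 h : (G.dHom F a)⁻¹ * G.fHom F σ ∈ Cfsg.Inn ↥(D.group F))
  have hact : G.Act1 ((G.dHom F a)⁻¹ * G.fHom F σ) 1 fun i t => (((a i)⁻¹ : Fˣ) : F) * σ t := by
    have := G.act1_mul (G.dHom_act a⁻¹) (G.fHom_act σ)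
    rw [map_inv, one_mul] at this
    exact this
  have hstd : Std (MulAut.conj x) := by
    rw [hx]
    exact (G.diag_std (G.exists_diagAut a).choose_spec.1).inv.mul
      (G.field_std (G.exists_fieldAut σ).choose_spec.1)
  obtain ⟨c, hc⟩ := G.diag_conj_act (G.mem_diag_of_std hstd)
  rw [hx] at hc
  have e := G.act1_fun hact hc
  refine RingEquiv.ext fun t => ?_
  have h1 := congrFun (congrFun e ⟨0, hr⟩) 1
  have h2 := congrFun (congrFun e ⟨0, hr⟩) t
  simp only [map_one, mul_one] at h1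
  rw [← h1] at h2
  exact mul_left_cancel₀ (Units.ne_zero _) h2

theorem qF_injective [Fintype F] (hr : 0 < D.rank) : Function.Injective (G.qF F) :=
  (injective_iff_map_eq_one _).2 fun σ h =>
    G.qD_eq_qF hr (a := 1) (by rw [map_one, h])

theorem disjoint_qD_qF [Fintype F] (hr : 0 < D.rank) :
    Disjoint (G.qD F).range (G.qF F).range := by
  rw [Subgroup.disjoint_def]
  rintro _ ⟨a, rfl⟩ ⟨σ, hσ⟩
  rw [← hσ, G.qD_eq_qF hr hσ.symm, map_one]

theorem card_qD [Fintype F] :
    Nat.card ↥(G.qD F).range * Nat.card ↥(D.diagonalSubgroup F) =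
      (Fintype.card F - 1) ^ D.rank := by
  classical
  let el : ↥(D.diagonalSubgroup F) → ↥(D.group F) := fun h =>
    ⟨h.1, G.borel_le_group (Subgroup.mem_sup_right h.2)⟩
  have hel : ∀ h, G.dHom F (G.diag_conj_act (h := el h) h.2).choose = MulAut.conj (el h) := fun h =>
    G.act1_ext (G.dHom_act _) (G.diag_conj_act (h := el h) h.2).choose_spec
  let Φ : ↥(D.diagonalSubgroup F) → ↥(G.qD F).ker := fun h =>
    ⟨(G.diag_conj_act (h := el h) h.2).choose, MonoidHom.mem_ker.2 (by
      show QuotientGroup.mk' _ (G.dHom F _) = 1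
      rw [hel, mk_conj (D := D) (F := F)])⟩
  have hΦ : Function.Bijective Φ := by
    constructor
    · intro h h' e
      have e1 := congrArg (fun z : ↥(G.qD F).ker => G.dHom F z.1) e
      simp only [Φ, hel] at e1
      have e2 : (el h')⁻¹ * el h ∈ Subgroup.center ↥(D.group F) := by
        refine Subgroup.mem_center_iff.2 fun y => ?_
        have h3 : el h * y * (el h)⁻¹ = el h' * y * (el h')⁻¹ := DFunLike.congr_fun e1 y
        calc y * ((el h')⁻¹ * el h) = (el h')⁻¹ * (el h' * y * (el h')⁻¹) * el h := by group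
          _ = (el h')⁻¹ * el h * y := by rw [← h3]; group
      rw [G.center_group_eq_bot, Subgroup.mem_bot, inv_mul_eq_one] at e2
      exact Subtype.ext (congrArg (fun z : ↥(D.group F) => (z : GL D.Idx F)) e2.symm)
    · rintro ⟨a, ha⟩
      obtain ⟨x, hx⟩ := (QuotientGroup.eq_one_iff _).1 (MonoidHom.mem_ker.1 ha)
      have hstd : Std (MulAut.conj x) := by
        rw [hx]; exact G.diag_std (G.exists_diagAut a).choose_spec.1
      have hmem := G.mem_diag_of_std hstd
      refine ⟨⟨x.1, hmem⟩, Subtype.ext ?_⟩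
      have h1 := (G.diag_conj_act (h := el ⟨x.1, hmem⟩) hmem).choose_spec
      have h2 : G.Act1 (MulAut.conj (el ⟨x.1, hmem⟩)) 1 fun i t => (a i : F) * t := by
        rw [show el ⟨x.1, hmem⟩ = x from rfl, hx]; exact G.dHom_act a
      funext i
      have h3 := congrFun (congrFun (G.act1_fun h1 h2) i) 1
      simp only [mul_one] at h3
      exact Units.ext h3
  rw [Nat.card_congr (Equiv.ofBijective Φ hΦ), ← Subgroup.index_ker, mul_comm,
    Subgroup.card_mul_index, Nat.card_pi, Finset.prod_const, Finset.card_univ, Fintype.card_fin,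
    Nat.card_units, Nat.card_eq_fintype_card]

/-- The order of the outer automorphism group. -/
theorem out_card [Fintype F] (hr : 0 < D.rank) (hS : chkSign D T = true)
    {L : List (List ℕ × ℕ × ℕ)} (hL : chkCands D T L = true) {U V Ui Vi : List (List ℤ)}
    {d : List ℕ} (hsm : chkSmith D T U V Ui Vi d = true) {p f : ℕ} [Fact p.Prime] [CharP F p]
    (hF : Fintype.card F = p ^ f) :
    Nat.card (Cfsg.Out ↥(D.group F)) =
      (∏ a ∈ Finset.range D.rank, Nat.gcd (p ^ f - 1) (d.getD a 0)) * f *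
        Nat.card ↥(G.rho F hS).range := by
  classical
  have hD := G.card_qD (F := F)
  have hH : Nat.card ↥(D.diagonalSubgroup F) ≠ 0 := by
    intro h0
    rw [h0, mul_zero] at hD
    exact pow_ne_zero _ (by have := Fintype.one_lt_card (α := F); omega) hD.symm
  rw [← G.card_diag hsm] at hD
  have hD' := Nat.eq_of_mul_eq_mul_right (Nat.pos_of_ne_zero hH) hD
  haveI := G.qD_range_normal (F := F) hS
  let e : ↥(G.qD F).range × ↥(G.qF F).range → ↥((G.qD F).range ⊔ (G.qF F).range) := fun z =>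
    ⟨(z.1 : Cfsg.Out ↥(D.group F)) * z.2,
      mul_mem (Subgroup.mem_sup_left z.1.2) (Subgroup.mem_sup_right z.2.2)⟩
  have he : Function.Bijective e := by
    refine ⟨fun z w h => Subgroup.mul_injective_of_disjoint (G.disjoint_qD_qF hr)
      (congrArg Subtype.val h), ?_⟩
    rintro ⟨g, hg⟩
    obtain ⟨y, hy, z, hz, h⟩ := Subgroup.mem_sup_of_normal_left.1 hg
    exact ⟨⟨⟨y, hy⟩, ⟨z, hz⟩⟩, Subtype.ext h⟩
  have hk : Nat.card ↥(G.rhoBar F hS).ker =
      (∏ a ∈ Finset.range D.rank, Nat.gcd (p ^ f - 1) (d.getD a 0)) * f := by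
    rw [G.rhoBar_ker hS hL, ← Nat.card_congr (Equiv.ofBijective e he), Nat.card_prod, hD', hF,
      ← Nat.card_congr (MonoidHom.ofInjective (G.qF_injective hr)).toEquiv, card_ringAut hF]
  rw [← hk, ← Subgroup.card_mul_index (G.rhoBar F hS).ker, Subgroup.index_ker, G.rhoBar_range]

/-- The image permutation is a candidate with exceptional exponent only in that characteristic. -/
theorem range_cand [Finite F] (hS : chkSign D T = true) {L : List (List ℕ × ℕ × ℕ)}
    (hL : chkCands D T L = true) {π : Equiv.Perm (Fin D.rank)} (hπ : π ∈ (G.rho F hS).range) :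
    ∃ e ∈ L, (∀ i : Fin D.rank, e.1.getD i.val 0 = (π i).val) ∧
      (e.2.1 = 1 ∨ ringChar F = e.2.1 ∨ ∀ x : F, x = 0 ∨ x = 1) := by
  obtain ⟨θ, rfl⟩ := hπ
  obtain ⟨x, f, hx, ha⟩ := G.rho_spec hS θ
  obtain ⟨d, θ', f', -, -, hact, hone⟩ := G.exists_normalized ha
  obtain ⟨⟨l, c, root⟩, he, hcand, hl⟩ := G.exists_cand hact hone hL
  refine ⟨_, he, hl, ?_⟩
  simp only [chkCand, Bool.and_eq_true, Bool.or_eq_true, decide_eq_true_eq, beq_iff_eq] at hcand
  obtain ⟨⟨⟨⟨⟨⟨-, hc⟩, -⟩, -⟩, -⟩, hsome⟩, -⟩ := hcand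
  rcases hsome with h1 | h1
  · exact Or.inl h1
  obtain ⟨i, hi, h2⟩ := anyLt_eq_true h1
  obtain ⟨j, hj, h3⟩ := anyLt_eq_true h2
  rw [decide_eq_true_eq] at h3
  obtain ⟨h3, h4⟩ := h3
  set ii : Fin D.rank := ⟨i, hi⟩ with hii
  set jj : Fin D.rank := ⟨j, hj⟩ with hjj
  have hpow : ∀ t, f' jj t = f' ii t ^ c := by
    intro t
    have hc0 : c ≠ 0 := by omega
    by_cases ht : t = 0
    · simp [ht, G.act1_zero hact, hc0]
    have hrel := G.act1_rel hact hone ii jj (inv_ne_zero ht) 1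
    rw [show i = ii.val from rfl, show j = jj.val from rfl, hl, hl] at h4
    rw [h4, show T.A ii.val (sim D jj.val) = -1 from h3, zpow_neg_one, inv_inv, mul_one, hone,
      mul_one] at hrel
    rw [hrel]
    have hinv : f' ii t⁻¹ = (f' ii t)⁻¹ :=
      eq_inv_of_mul_eq_one_left (by rw [← G.act1_mult hact hone, inv_mul_cancel₀ ht, hone])
    rw [hinv, inv_zpow, zpow_neg, inv_inv, zpow_natCast]
  have hbij : Function.Bijective (f' ii) := Finite.injective_iff_bijective.1 (G.act1_inj hact ii)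
  rcases additive_power hc (fun u v => by
    obtain ⟨a, rfl⟩ := hbij.2 u
    obtain ⟨b, rfl⟩ := hbij.2 v
    rw [← G.act1_add hact, ← hpow, ← hpow, ← hpow, G.act1_add hact]) with h | ⟨h, -⟩ | h
  exacts [Or.inl h, Or.inr (Or.inl h), Or.inr (Or.inr h)]

theorem card_range_le [Finite F] (hS : chkSign D T = true) {L : List (List ℕ × ℕ × ℕ)}
    (hL : chkCands D T L = true) : Nat.card ↥(G.rho F hS).range ≤ L.length := by
  classical
  choose e he hl hc using fun π : ↥(G.rho F hS).range => G.range_cand hS hL π.2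
  have hinj : Function.Injective fun π : ↥(G.rho F hS).range =>
      (⟨e π, he π⟩ : {e // e ∈ L}) := by
    intro π π' h
    have h' : e π = e π' := congrArg Subtype.val h
    refine Subtype.ext (Equiv.ext fun i => Fin.ext ?_)
    rw [← hl π i, ← hl π' i, h']
  refine (Nat.card_le_card_of_injective _ hinj).trans ?_
  rw [← Nat.card_fin L.length]
  exact Nat.card_le_card_of_surjective
    (fun i : Fin L.length => (⟨L[i], List.getElem_mem _⟩ : {e // e ∈ L})) fun ⟨z, hz⟩ => by
      obtain ⟨i, hi, h⟩ := List.getElem_of_mem hz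
      exact ⟨⟨i, hi⟩, Subtype.ext h⟩

theorem range_eq_bot [Finite F] (hS : chkSign D T = true) {L : List (List ℕ × ℕ × ℕ)}
    (hL : chkCands D T L = true)
    (h : ∀ e ∈ L, (∀ i < D.rank, e.1.getD i 0 = i) ∨
      (e.2.1 ≠ 1 ∧ ringChar F ≠ e.2.1 ∧ ∃ x : F, x ≠ 0 ∧ x ≠ 1)) :
    (G.rho F hS).range = ⊥ := by
  refine eq_bot_iff.2 fun π hπ => ?_
  obtain ⟨e, he, hl, hc⟩ := G.range_cand hS hL hπ
  rw [Subgroup.mem_bot]
  rcases h e he with h1 | ⟨h1, h2, x, hx0, hx1⟩
  · exact Equiv.ext fun i => Fin.ext (by rw [← hl i, h1 i.val i.isLt]; rfl)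
  · rcases hc with hc | hc | hc
    · exact absurd hc h1
    · exact absurd hc h2
    · rcases hc x with hc | hc
      · exact absurd hc hx0
      · exact absurd hc hx1

/-- A graph automorphism given by a table. -/
theorem exists_range_of_table [Fintype F] (hS : chkSign D T = true) {S : AutTab}
    (hchk : S.chk D T = true) (hp : (S.p : F) = 0) (hadj : chkAdj D T = true)
    (hpos : 0 < D.nroots) {l : List ℕ} (hg : chkGraph D S l = true) :
    ∃ π ∈ (G.rho F hS).range, ∀ i : Fin D.rank, (π i).val = l.getD i.val 0 := by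
  classical
  have hperf : ∀ r < D.nroots, ∀ x : F, ∃ y : F, y ^ S.ex r = x := by
    intro r hr x
    rcases (G.aut_facts hchk hr).2.2.2.2.2.1 with e | ⟨e, h1⟩
    · exact ⟨x, by rw [e, pow_one]⟩
    · haveI := Fact.mk (Good.aut_prime hchk h1)
      haveI : CharP F S.p := ringChar.of_eq (CharP.ringChar_of_prime_eq_zero Fact.out hp)
      obtain ⟨y, hy⟩ := (bijective_frobenius F S.p).2 x
      exact ⟨y, by rw [e]; simpa [frobenius_def] using hy⟩
  have A : AutHyp D T S F := ⟨G, hadj, hchk, hp, hpos, hperf⟩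
  simp only [chkGraph, Bool.and_eq_true] at hg
  have hval : ∀ r < D.nroots, ∀ t : F,
      A.alphaEquiv (G.GX F r t) = G.GX F (S.rho r) ((S.eps r : F) * t ^ S.ex r) := fun r hr t =>
    G.eq_GX (A.alphaEquiv_val hr (G.X_val r t))
  have hl := fun (i : Fin D.rank) => by
    have := allLt_eq_true hg.2 i.val i.isLt
    simp only [Bool.and_eq_true, decide_eq_true_eq, beq_iff_eq] at this
    exact this
  let π : Equiv.Perm (Fin D.rank) := Equiv.ofBijective (fun i => ⟨l.getD i.val 0, (hl i).1.1.1⟩)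
    (Finite.injective_iff_bijective.1 fun i j e => by
      have := allLt_eq_true (hl i).2 j.val j.isLt
      simp only [Bool.or_eq_true, bne_iff_ne, ne_eq, beq_iff_eq] at this
      exact Fin.ext (this.resolve_left (not_not_intro (Fin.mk.inj_iff.1 e))))
  have hπ : ∀ i : Fin D.rank, (π i).val = l.getD i.val 0 := fun i => rfl
  refine ⟨π, ⟨A.alphaEquiv, G.rho_of_std hS ?_
    (π := π) (f := fun i t => t ^ S.ex (sim D i.val)) ?_⟩, hπ⟩
  · refine G.std_of_signPres fun r hr t =>
      ⟨S.rho r, (G.aut_facts hchk hr).1, _, ?_, hval r hr t⟩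
    have := allLt_eq_true hg.1 r hr
    simpa [iff_comm] using this
  · intro i t
    obtain ⟨-, f1, -, f2, f3, f4, -⟩ := G.aut_facts hchk (G.sim_lt i.isLt)
    obtain ⟨⟨⟨-, h1⟩, h2⟩, -⟩ := hl i
    constructor
    · rw [hval _ (G.sim_lt i.isLt), h1, h2, Int.cast_one, one_mul, hπ]
    · rw [hval _ (G.ng_lt (G.sim_lt i.isLt)), f1, f2, f3, h1, h2, Int.cast_one, one_mul, hπ]
      congr 1
      have hneg : (-1 : F) ^ S.ex (sim D i.val) = -1 := by
        rcases f4 with e | ⟨e, h5⟩
        · rw [e, pow_one]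
        · haveI := Fact.mk (Good.aut_prime hchk h5)
          haveI : CharP F S.p := ringChar.of_eq (CharP.ringChar_of_prime_eq_zero Fact.out hp)
          rw [e]; exact neg_one_pow_char F S.p
      show _ = -((-t⁻¹) ^ S.ex (sim D i.val))⁻¹
      rw [neg_pow, hneg, neg_one_mul, inv_pow, inv_neg, inv_inv, neg_neg]

end Good

end Cfsg.Agent.Lib.Chev
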