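import Cfsg.Agent.Lib.Chev.Aut.Out

/-!
The outer automorphism groups, type by type.
-/

set_option autoImplicit false
set_option linter.unusedSectionVars false
set_option linter.style.haveILetI false
set_option maxRecDepth 100000

namespace Cfsg.Agent.Lib.Chev

open Cfsg.Lie
open scoped commutatorElement

theorem sign_of_par {D : ChevalleyDatum} {T : Tables} (h : chkPar D T = true) :
    chkSign D T = true := by
  simp only [chkPar, Bool.and_eq_true] at h
  exact h.1

theorem graphG2_chk : chkGraph chevG2 autG2 [1, 0] = true := by decide +kernel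
theorem graphB2_chk : chkGraph chevB2 autB2 [1, 0] = true := by decide +kernel
theorem graphF4_chk : chkGraph chevF4 autF4 [3, 2, 1, 0] = true := by decide +kernel
theorem graphE6_chk : chkGraph chevE6 autE6 [5, 1, 4, 3, 2, 0] = true := by decide +kernel
theorem graphD4a_chk : chkGraph chevD4 autD4a [2, 1, 3, 0] = true := by decide +kernel
theorem graphD4c_chk : chkGraph chevD4 autD4c [0, 1, 3, 2] = true := by decide +kernel

variable {D : ChevalleyDatum} {T : Tables} {F : Type*} [Field F]

namespace Good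

variable (G : Good D T)
include G

theorem card_range_two [Fintype F] (hS : chkSign D T = true) {L : List (List ℕ × ℕ × ℕ)}
    (hL : chkCands D T L = true) (hlen : L.length ≤ 2) {π : Equiv.Perm (Fin D.rank)}
    (hπ : π ∈ (G.rho F hS).range) (hne : π ≠ 1) : Nat.card ↥(G.rho F hS).range = 2 := by
  have h1 : 1 < Nat.card ↥(G.rho F hS).range :=
    Subgroup.one_lt_card_iff_ne_bot _ |>.2 fun h => hne (Subgroup.mem_bot.1 (h ▸ hπ))
  have h2 := (G.card_range_le (F := F) hS hL).trans hlen
  omega

theorem card_range_one [Fintype F] (hS : chkSign D T = true) {L : List (List ℕ × ℕ × ℕ)}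
    (hL : chkCands D T L = true)
    (h : ∀ e ∈ L, (∀ i < D.rank, e.1.getD i 0 = i) ∨
      (e.2.1 ≠ 1 ∧ ringChar F ≠ e.2.1 ∧ ∃ x : F, x ≠ 0 ∧ x ≠ 1)) :
    Nat.card ↥(G.rho F hS).range = 1 := by
  rw [G.range_eq_bot hS hL h, Subgroup.card_bot]

/-- The structure of the outer automorphism group. -/
theorem out_structure [Fintype F] (hS : chkSign D T = true) {L : List (List ℕ × ℕ × ℕ)}
    (hL : chkCands D T L = true)
    (h : L.length ≤ 2 ∨ (Nat.card ↥(G.rho F hS).range = 6 ∧
      ∃ a ∈ (G.rho F hS).range, ∃ b ∈ (G.rho F hS).range, a * b ≠ b * a))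
    {Dbar Fbar : Subgroup (Cfsg.Out ↥(D.group F))}
    (hDbar : Dbar = (Subgroup.closure {φ : MulAut ↥(D.group F) | D.IsDiagonalAut φ}).map
      (QuotientGroup.mk' (Cfsg.Inn ↥(D.group F))))
    (hFbar : Fbar = (Subgroup.closure {φ : MulAut ↥(D.group F) | D.IsFieldAut φ}).map
      (QuotientGroup.mk' (Cfsg.Inn ↥(D.group F)))) :
    Dbar.Normal ∧ IsMulCommutative ↥Dbar ∧ IsCyclic ↥Fbar ∧ (Dbar ⊔ Fbar).Normal ∧
      ((Dbar ⊔ Fbar).index = 1 ∨ (Dbar ⊔ Fbar).index = 2 ∨
        ((Dbar ⊔ Fbar).index = 6 ∧ ¬ commutator (Cfsg.Out ↥(D.group F)) ≤ Dbar ⊔ Fbar)) := by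
  rw [G.qD_range (F := F)] at hDbar
  rw [G.qF_range (F := F)] at hFbar
  subst hDbar hFbar
  refine ⟨G.qD_range_normal hS, ⟨⟨?_⟩⟩, ?_, ?_, ?_⟩
  · rintro ⟨_, u, rfl⟩ ⟨_, v, rfl⟩
    exact Subtype.ext (by simp only [Subgroup.coe_mul, ← map_mul, mul_comm u v])
  · obtain ⟨p, hp⟩ := CharP.exists F
    haveI : Fact p.Prime := ⟨CharP.char_is_prime F p⟩
    haveI := isCyclic_ringAut (F := F) p
    exact isCyclic_of_surjective _ (G.qF F).rangeRestrict_surjective
  · rw [← G.rhoBar_ker hS hL]; infer_instance
  · rw [← G.rhoBar_ker hS hL, Subgroup.index_ker, G.rhoBar_range]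
    rcases h with h | ⟨h6, a, ha, b, hb, hne⟩
    · have h2 := (G.card_range_le (F := F) hS hL).trans h
      have h1 : 0 < Nat.card ↥(G.rho F hS).range := Nat.card_pos
      omega
    · refine Or.inr (Or.inr ⟨h6, fun hc => hne ?_⟩)
      rw [← G.rhoBar_range] at ha hb
      obtain ⟨g, rfl⟩ := ha
      obtain ⟨k, rfl⟩ := hb
      have h1 : ⁅g, k⁆ ∈ (G.rhoBar F hS).ker := hc (by
        rw [commutator_def]
        exact Subgroup.commutator_mem_commutator (Subgroup.mem_top g) (Subgroup.mem_top k))
      rw [MonoidHom.mem_ker, map_commutatorElement] at h1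
      exact commutatorElement_eq_one_iff_mul_comm.1 h1

end Good

theorem exists_ne_zero_one [Fintype F] (h : 3 ≤ Fintype.card F) : ∃ x : F, x ≠ 0 ∧ x ≠ 1 := by
  classical
  by_contra h'
  simp only [not_exists, not_and, not_not] at h'
  have hle : (Finset.univ : Finset F) ⊆ {0, 1} := fun x _ => by
    by_cases hx : x = 0
    · simp [hx]
    · simp [h' x hx]
  have := (Finset.card_le_card hle).trans Finset.card_le_two
  rw [Finset.card_univ] at this
  omega

theorem rangeD4 [Fintype F] :
    Nat.card ↥(goodD4.rho F (sign_of_par parD4)).range = 6 ∧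
      ∃ a ∈ (goodD4.rho F (sign_of_par parD4)).range,
        ∃ b ∈ (goodD4.rho F (sign_of_par parD4)).range, a * b ≠ b * a := by
  obtain ⟨a, ha, hav⟩ := goodD4.exists_range_of_table (F := F) (sign_of_par parD4) autD4a_chk
    Nat.cast_zero adjD4 (by decide) graphD4a_chk
  obtain ⟨b, hb, hbv⟩ := goodD4.exists_range_of_table (F := F) (sign_of_par parD4) autD4c_chk
    Nat.cast_zero adjD4 (by decide) graphD4c_chk
  have hv : ∀ (σ : Equiv.Perm (Fin 4)) (l : List ℕ), (∀ i : Fin 4, (σ i).val = l.getD i.val 0) →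
      ∀ i : Fin 4, σ i = (⟨l.getD i.val 0 % 4, Nat.mod_lt _ (by decide)⟩ : Fin 4) := fun σ l h i =>
    Fin.ext (by rw [← Nat.mod_eq_of_lt (σ i).isLt, h i])
  have hr : chevD4.rank = 4 := rfl
  change Equiv.Perm (Fin 4) at a b
  have hA := hv a _ hav
  have hB := hv b _ hbv
  have ha3 : a ^ 3 = 1 := Equiv.ext fun i => by
    simp only [pow_succ, pow_zero, one_mul, Equiv.Perm.mul_apply, hA, Equiv.Perm.one_apply]
    revert i; decide
  have hb2 : b ^ 2 = 1 := Equiv.ext fun i => by
    simp only [pow_succ, pow_zero, one_mul, Equiv.Perm.mul_apply, hB, Equiv.Perm.one_apply]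
    revert i; decide
  have ha1 : a ≠ 1 := fun h => by
    have := Equiv.congr_fun h (0 : Fin 4)
    simp only [hA, Equiv.Perm.one_apply] at this
    exact absurd this (by decide)
  have hb1 : b ≠ 1 := fun h => by
    have := Equiv.congr_fun h (2 : Fin 4)
    simp only [hB, Equiv.Perm.one_apply] at this
    exact absurd this (by decide)
  have hab : a * b ≠ b * a := fun h => by
    have := Equiv.congr_fun h (0 : Fin 4)
    simp only [Equiv.Perm.mul_apply, hA, hB] at this
    exact absurd this (by decide)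
  refine ⟨?_, a, ha, b, hb, hab⟩
  haveI := Fact.mk Nat.prime_three
  haveI := Fact.mk Nat.prime_two
  have h3 : 3 ∣ Nat.card ↥(goodD4.rho F (sign_of_par parD4)).range :=
    orderOf_eq_prime ha3 ha1 ▸ Subgroup.orderOf_dvd_natCard _ ha
  have h2 : 2 ∣ Nat.card ↥(goodD4.rho F (sign_of_par parD4)).range :=
    orderOf_eq_prime hb2 hb1 ▸ Subgroup.orderOf_dvd_natCard _ hb
  have hle : Nat.card ↥(goodD4.rho F (sign_of_par parD4)).range ≤ 6 :=
    goodD4.card_range_le (F := F) (sign_of_par parD4) candD4_chk
  have hpos : 0 < Nat.card ↥(goodD4.rho F (sign_of_par parD4)).range := Nat.card_pos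
  omega

theorem out_G2 [Fintype F] (p f : ℕ) [Fact p.Prime] [CharP F p]
    (hF : Fintype.card F = p ^ f) (hq : 3 ≤ p ^ f) :
    Nat.card (Cfsg.Out ↥(chevG2.group F)) = if p = 3 then 2 * f else f := by
  rw [goodG2.out_card (by decide) (sign_of_par parG2) candG2_chk smithG2 hF,
    show Finset.range chevG2.rank = Finset.range 2 from rfl]
  simp only [Finset.prod_range_succ, Finset.prod_range_zero, List.getD_cons_zero,
    List.getD_cons_succ, Nat.gcd_one_right, one_mul]
  split_ifs with h3
  · subst h3
    obtain ⟨π, hπ, hv⟩ := goodG2.exists_range_of_table (F := F) (sign_of_par parG2) autG2_chk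
      (CharP.cast_eq_zero F 3) adjG2 (by decide) graphG2_chk
    rw [goodG2.card_range_two (sign_of_par parG2) candG2_chk (by simp [candG2]) hπ fun h => by
      have h1 := hv ⟨0, by decide⟩
      rw [h] at h1
      simp at h1]
    ring
  · rw [goodG2.card_range_one (sign_of_par parG2) candG2_chk fun e he => ?_, mul_one]
    simp only [candG2, List.mem_cons, List.not_mem_nil, or_false] at he
    rcases he with rfl | rfl
    · left; decide
    · exact Or.inr ⟨by decide, by rw [ringChar.eq F p]; exact h3,
        exists_ne_zero_one (by omega)⟩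

theorem out_F4 [Fintype F] (p f : ℕ) [Fact p.Prime] [CharP F p]
    (hF : Fintype.card F = p ^ f) :
    Nat.card (Cfsg.Out ↥(chevF4.group F)) = Nat.gcd 2 p * f := by
  rw [goodF4.out_card (by decide) (sign_of_par parF4) candF4_chk smithF4 hF,
    show Finset.range chevF4.rank = Finset.range 4 from rfl]
  simp only [Finset.prod_range_succ, Finset.prod_range_zero, List.getD_cons_zero,
    List.getD_cons_succ, Nat.gcd_one_right, one_mul]
  by_cases h2 : p = 2
  · subst h2
    obtain ⟨π, hπ, hv⟩ := goodF4.exists_range_of_table (F := F) (sign_of_par parF4) autF4_chk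
      (CharP.cast_eq_zero F 2) adjF4 (by decide) graphF4_chk
    rw [goodF4.card_range_two (sign_of_par parF4) candF4_chk (by simp [candF4]) hπ fun h => by
      have h1 := hv ⟨0, by decide⟩
      rw [h] at h1
      simp at h1, Nat.gcd_self]
    ring
  · have hp := (Fact.out : p.Prime)
    rw [show Nat.gcd 2 p = 1 from (Nat.coprime_primes Nat.prime_two hp).2 (Ne.symm h2), one_mul,
      goodF4.card_range_one (sign_of_par parF4) candF4_chk fun e he => ?_, mul_one]
    simp only [candF4, List.mem_cons, List.not_mem_nil, or_false] at he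
    rcases he with rfl | rfl
    · left; decide
    · refine Or.inr ⟨by decide, by rw [ringChar.eq F p]; exact h2, exists_ne_zero_one ?_⟩
      have := Fintype.one_lt_card (α := F)
      by_contra hlt
      have h4 : p ^ f = 2 := by omega
      exact h2 ((Nat.prime_dvd_prime_iff_eq hp Nat.prime_two).1 (by
        rw [← h4]; exact dvd_pow_self p (by rintro rfl; simp at h4)))

theorem out_E6 [Fintype F] (p f : ℕ) [Fact p.Prime] [CharP F p]
    (hF : Fintype.card F = p ^ f) :
    Nat.card (Cfsg.Out ↥(chevE6.group F)) = 2 * Nat.gcd 3 (p ^ f - 1) * f := by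
  obtain ⟨π, hπ, hv⟩ := goodE6.exists_range_of_table (F := F) (sign_of_par parE6) autE6_chk
    Nat.cast_zero adjE6 (by decide) graphE6_chk
  rw [goodE6.out_card (by decide) (sign_of_par parE6) candE6_chk smithE6 hF,
    goodE6.card_range_two (sign_of_par parE6) candE6_chk (by simp [candE6]) hπ (fun h => by
      have h1 := hv ⟨0, by decide⟩
      rw [h] at h1
      simp at h1), show Finset.range chevE6.rank = Finset.range 6 from rfl]
  simp only [Finset.prod_range_succ, Finset.prod_range_zero, List.getD_cons_zero,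
    List.getD_cons_succ, Nat.gcd_one_right, one_mul]
  rw [Nat.gcd_comm]
  ring

theorem out_E7 [Fintype F] (p f : ℕ) [Fact p.Prime] [CharP F p]
    (hF : Fintype.card F = p ^ f) :
    Nat.card (Cfsg.Out ↥(chevE7.group F)) = Nat.gcd 2 (p ^ f - 1) * f := by
  rw [goodE7.out_card (by decide) (sign_of_par parE7) candE7_chk smithE7 hF,
    goodE7.card_range_one (sign_of_par parE7) candE7_chk (fun e he => by
      simp only [candE7, List.mem_cons, List.not_mem_nil, or_false] at he
      subst he
      left; decide), show Finset.range chevE7.rank = Finset.range 7 from rfl]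
  simp only [Finset.prod_range_succ, Finset.prod_range_zero, List.getD_cons_zero,
    List.getD_cons_succ, Nat.gcd_one_right, one_mul, mul_one]
  rw [Nat.gcd_comm]

theorem out_E8 [Fintype F] (p f : ℕ) [Fact p.Prime] [CharP F p]
    (hF : Fintype.card F = p ^ f) :
    Nat.card (Cfsg.Out ↥(chevE8.group F)) = f := by
  rw [goodE8.out_card (by decide) (sign_of_par parE8) candE8_chk smithE8 hF,
    goodE8.card_range_one (sign_of_par parE8) candE8_chk (fun e he => by
      simp only [candE8, List.mem_cons, List.not_mem_nil, or_false] at he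
      subst he
      left; decide), show Finset.range chevE8.rank = Finset.range 8 from rfl]
  simp only [Finset.prod_range_succ, Finset.prod_range_zero, List.getD_cons_zero,
    List.getD_cons_succ, Nat.gcd_one_right, one_mul, mul_one]

/-- The structure of the outer automorphism groups. -/
theorem out_structure_all {F : Type*} [Field F] [Finite F] {D : ChevalleyDatum}
    (hD : D ∈ [chevG2, chevB2, chevD4, chevF4, chevE6, chevE7, chevE8])
    (Dbar Fbar : Subgroup (Cfsg.Out ↥(D.group F)))
    (hDbar : Dbar = (Subgroup.closure {φ : MulAut ↥(D.group F) | D.IsDiagonalAut φ}).map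
      (QuotientGroup.mk' (Cfsg.Inn ↥(D.group F))))
    (hFbar : Fbar = (Subgroup.closure {φ : MulAut ↥(D.group F) | D.IsFieldAut φ}).map
      (QuotientGroup.mk' (Cfsg.Inn ↥(D.group F)))) :
    Dbar.Normal ∧ IsMulCommutative ↥Dbar ∧ IsCyclic ↥Fbar ∧ (Dbar ⊔ Fbar).Normal ∧
      ((Dbar ⊔ Fbar).index = 1 ∨ (Dbar ⊔ Fbar).index = 2 ∨
        ((Dbar ⊔ Fbar).index = 6 ∧ ¬ commutator (Cfsg.Out ↥(D.group F)) ≤ Dbar ⊔ Fbar)) := by
  haveI := Fintype.ofFinite F
  simp only [List.mem_cons, List.not_mem_nil, or_false] at hD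
  rcases hD with rfl | rfl | rfl | rfl | rfl | rfl | rfl
  · exact goodG2.out_structure (sign_of_par parG2) candG2_chk (Or.inl (by simp [candG2])) hDbar hFbar
  · exact goodB2.out_structure (sign_of_par parB2) candB2_chk (Or.inl (by simp [candB2])) hDbar hFbar
  · exact goodD4.out_structure (sign_of_par parD4) candD4_chk (Or.inr rangeD4) hDbar hFbar
  · exact goodF4.out_structure (sign_of_par parF4) candF4_chk (Or.inl (by simp [candF4])) hDbar hFbar
  · exact goodE6.out_structure (sign_of_par parE6) candE6_chk (Or.inl (by simp [candE6])) hDbar hFbar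
  · exact goodE7.out_structure (sign_of_par parE7) candE7_chk (Or.inl (by simp [candE7])) hDbar hFbar
  · exact goodE8.out_structure (sign_of_par parE8) candE8_chk (Or.inl (by simp [candE8])) hDbar hFbar

end Cfsg.Agent.Lib.Chev
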