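import Cfsg.Agent.Lib.Chev.Aut.Basic

/-!
An automorphism preserving both unipotent subgroups permutes the fundamental root subgroups.
-/

set_option autoImplicit false
set_option linter.unusedSectionVars false

namespace Cfsg.Agent.Lib.Chev

open Cfsg.Lie
open scoped Matrix

variable {D : ChevalleyDatum} {T : Tables} {F : Type*} [Field F]

/-- The action on the fundamental root elements and their negatives. -/
def Good.Act1 (G : Good D T) (θ : MulAut ↥(D.group F)) (π : Equiv.Perm (Fin D.rank))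
    (f : Fin D.rank → F → F) : Prop :=
  ∀ (i : Fin D.rank) (t : F),
    θ (G.GX F (sim D i.val) t) = G.GX F (sim D (π i).val) (f i t) ∧
    θ (G.GX F (ng D (sim D i.val)) t) = G.GX F (ng D (sim D (π i).val)) (-(f i (-t⁻¹))⁻¹)

namespace Good

variable (G : Good D T)
include G

theorem borel_of_normalizes {g : GL D.Idx F} (hg : g ∈ D.group F)
    (h : ∀ y ∈ D.posUnipotent F, g * y * g⁻¹ ∈ D.posUnipotent F) : g ∈ D.borelSubgroup F := by
  obtain ⟨b, hb, n, l, hl, u, hu, e⟩ := G.exists_normal_form hg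
  have hu' : u ∈ D.posUnipotent F := G.USub_le_pos _ hu
  have hpos : ∀ i < D.rank, npos D ≤ wl T l (sim D i) := by
    intro i hi
    by_contra hneg
    obtain ⟨hlt, c, hc, hn⟩ := G.rep_act hl _ (G.sim_lt hi)
    have h1 := h _ (mul_mem (mul_mem (inv_mem hu')
      (G.X_mem_posUnipotent (G.sim_lt hi) (G.sim_pos hi) 1)) hu')
    have h2 := (Subgroup.mem_normalizer_iff.1
      ((sup_le Subgroup.le_normalizer G.diag_normalizes_pos : D.borelSubgroup F ≤ _) (inv_mem hb))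
      _).1 h1
    have e2 : b⁻¹ * (g * (u⁻¹ * G.X F (sim D i) 1 * u) * g⁻¹) * b⁻¹⁻¹ =
        n * G.X F (sim D i) 1 * n⁻¹ := by rw [e]; group
    rw [e2, hn, mul_one] at h2
    have h3 := Subgroup.mem_bot.1 (G.borel_inf_neg (F := F) ▸ Subgroup.mem_inf.2
      ⟨Subgroup.mem_sup_left h2, G.X_mem_negUnipotent hlt (Nat.lt_of_not_le hneg) c⟩)
    rw [G.X_eq_one_iff hlt] at h3
    exact hc h3
  have h1 := mul_mem hl.2 (G.nl_mem_diag_of_pos (F := F) _ rfl hl.1 hpos)
  rw [inv_mul_cancel_right] at h1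
  exact e ▸ mul_mem (mul_mem hb (Subgroup.mem_sup_right h1)) (Subgroup.mem_sup_left hu')

theorem std_borel_le {θ : MulAut ↥(D.group F)} (h : Std θ) :
    ((G.bnPair F).B).map θ.toMonoidHom ≤ (G.bnPair F).B := by
  rintro _ ⟨b, hb, rfl⟩
  refine G.borel_of_normalizes (θ b).2 fun y hy => ?_
  have hyg : y ∈ D.group F := G.borel_le_group (Subgroup.mem_sup_left hy)
  have h1 : (⟨y, hyg⟩ : ↥(D.group F)) ∈ (upIn D F).map θ.toMonoidHom := by rw [h.1]; exact hy
  obtain ⟨z, hz, ez⟩ := h1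
  have hbz : b * z * b⁻¹ ∈ upIn D F :=
    (Subgroup.mem_normalizer_iff.1
      ((sup_le Subgroup.le_normalizer G.diag_normalizes_pos : D.borelSubgroup F ≤ _)
        (show (b : GL D.Idx F) ∈ D.borelSubgroup F from hb)) (z : GL D.Idx F)).1 hz
  have h2 : θ (b * z * b⁻¹) ∈ upIn D F := h.1 ▸ Subgroup.mem_map_of_mem θ.toMonoidHom hbz
  have e : θ z = ⟨y, hyg⟩ := ez
  rw [map_mul, map_mul, map_inv, e] at h2
  exact h2

theorem std_borel {θ : MulAut ↥(D.group F)} (h : Std θ) :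
    ((G.bnPair F).B).map θ.toMonoidHom = (G.bnPair F).B := by
  refine le_antisymm (G.std_borel_le h) fun y hy => ⟨(θ⁻¹ : MulAut _) y, ?_, ?_⟩
  · exact G.std_borel_le h.inv (Subgroup.mem_map_of_mem _ hy)
  · exact θ.apply_symm_apply y

/-- The fundamental `n` inside the group. -/
def nIn (F : Type*) [Field F] {i : ℕ} (hi : i < D.rank) : ↥(D.group F) :=
  ⟨G.ni F i, G.ni_mem_group hi⟩

theorem nIn_mem_S {i : ℕ} (hi : i < D.rank) : G.nIn F hi ∈ (G.bnPair F).S :=
  G.mem_niSet.2 ⟨i, hi, rfl⟩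

/-- The minimal parabolic subgroup. -/
noncomputable def minPar (F : Type*) [Field F] {i : ℕ} (hi : i < D.rank) : Subgroup ↥(D.group F) :=
  (G.bnPair F).parabolic {G.nIn F hi}

theorem minPar_neg {i : ℕ} (hi : i < D.rank) {y : ↥(D.group F)}
    (hy : y ∈ G.minPar F hi) (hy' : y ∈ umIn D F) : ∃ t, y = G.GX F (ng D (sim D i)) t := by
  have hp := G.sim_lt hi
  obtain ⟨P, hP⟩ := G.borel_union_subgroup (F := F) hi
  have hPset : ∀ x : GL D.Idx F, x ∈ P ↔ x ∈ (D.borelSubgroup F : Set (GL D.Idx F)) ∪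
      DoubleCoset.doubleCoset (G.ni F i) (D.borelSubgroup F : Set (GL D.Idx F))
        (D.borelSubgroup F) := fun x => by rw [← hP]; rfl
  have hle : G.minPar F hi ≤ P.comap (D.group F).subtype := by
    refine sup_le (fun x hx => (hPset _).2 (Or.inl hx)) ((Subgroup.closure_le _).2 ?_)
    rintro x rfl
    exact (hPset _).2 (Or.inr (DoubleCoset.mem_doubleCoset_self _ _ _))
  rcases (hPset _).1 (hle hy) with h | h
  · refine ⟨0, ?_⟩
    rw [G.GX_zero]
    exact Subtype.ext (Subgroup.mem_bot.1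
      (G.borel_inf_neg (F := F) ▸ Subgroup.mem_inf.2 ⟨h, hy'⟩))
  obtain ⟨a, ha, c, hc, hv⟩ := DoubleCoset.mem_doubleCoset.1 h
  obtain ⟨u, hu, d, hd, rfl⟩ := G.mem_borel.1 (show c ∈ D.borelSubgroup F from hc)
  obtain ⟨u', hu', t, rfl⟩ := G.exists_keep_X hi hu
  set ν := G.ni F i with hν
  obtain ⟨χ, hχ, eχ⟩ := G.exists_tor (inv_mem hd)
  have hconj : d⁻¹ * G.X F (sim D i) t * d = G.X F (sim D i) (tor D T χ (sim D i) * t) := by
    have := G.diag_conj_X eχ (G.isChar_tor fun m _ => hχ m) hp t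
    simpa using this
  set t' := tor D T χ (sim D i) * t with ht'
  set b' := a * (ν * u' * ν⁻¹) * (ν * d * ν⁻¹) with hb'
  have hb'B : b' ∈ D.borelSubgroup F :=
    mul_mem (mul_mem ha (Subgroup.mem_sup_left (G.USub_le_pos _ (G.ni_conj_up hi hu'))))
      (Subgroup.mem_sup_right
        ((Subgroup.mem_normalizer_iff.1 (G.ni_normalizer hi) d).1 hd))
  have hvv : (y : GL D.Idx F) = b' * ν * G.X F (sim D i) t' := by
    rw [← hconj, hb']
    calc (y : GL D.Idx F) = a * ν * (u' * G.X F (sim D i) t * d) := hv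
      _ = _ := by group
  by_cases ht : t' = 0
  · exfalso
    rw [ht, G.X_zero, mul_one] at hvv
    obtain ⟨l0, hl0, hpn, hnp, c0, hc0, hcU, hcV⟩ := G.exists_flipper (F := F)
    have h1 : y ∈ (upIn D F).map (MulAut.conj c0).toMonoidHom := hcU.symm ▸ hy'
    obtain ⟨w, hw, ew⟩ := h1
    have e3 : (c0 : GL D.Idx F) * w * (c0 : GL D.Idx F)⁻¹ = (y : GL D.Idx F) :=
      congrArg Subtype.val ew
    have hN0 : (c0 : GL D.Idx F) ∈ D.monomialSubgroup F := hc0 ▸ G.nl_mem_monomial hl0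
    have h2 := G.normal_form_coset (b := b') (b' := 1) (n := ν * (c0 : GL D.Idx F))
      (n' := (c0 : GL D.Idx F)) (u := 1) (u' := (w : GL D.Idx F)) hb'B (one_mem _)
      (mul_mem (G.ni_mem_monomial hi) hN0) hN0 (one_mem _) hw
      (by rw [mul_one, one_mul, ← mul_assoc, ← hvv, ← e3]; group)
    have h3 := (Subgroup.mem_normalizer_iff.1 (G.monomial_le_normalizer hN0) _).1 h2
    have h4 : ν ∈ D.diagonalSubgroup F := by
      convert inv_mem h3 using 1
      group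
    have h5 := G.act_unique (G.rep_act (G.rep_ni (F := F) hi)) (G.act_diag h4) hp
    simp only [wl, G.w_sim hi, id] at h5
    exact G.ng_ne hp h5
  · refine ⟨t'⁻¹, Subtype.ext ?_⟩
    have hnp := G.ng_sim_lt hi
    have e2 : G.X F (ng D (sim D i)) t'⁻¹ =
        G.X F (sim D i) t' * (G.Hg F (sim D i) (-t') * ν) * G.X F (sim D i) t' := by
      rw [← G.Ng_sim_eq hi, Good.Ng, inv_neg, neg_neg, ← mul_assoc, ← mul_assoc, G.X_add,
        add_neg_cancel, G.X_zero, one_mul, mul_assoc, G.X_add, neg_add_cancel, G.X_zero, mul_one]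
    have e4 : (y : GL D.Idx F) * (G.X F (ng D (sim D i)) t'⁻¹)⁻¹ =
        b' * (G.Hg F (sim D i) (-t'))⁻¹ * (G.X F (sim D i) t')⁻¹ := by
      rw [hvv, e2]; group
    have h1 : (y : GL D.Idx F) * (G.X F (ng D (sim D i)) t'⁻¹)⁻¹ = 1 :=
      Subgroup.mem_bot.1 (G.borel_inf_neg (F := F) ▸ Subgroup.mem_inf.2
        ⟨e4 ▸ mul_mem (mul_mem hb'B (inv_mem (Subgroup.mem_sup_right
            (G.Hg_mem hp (neg_ne_zero.2 ht)))))
          (inv_mem (Subgroup.mem_sup_left (G.X_mem_posUnipotent hp (G.sim_pos hi) _))),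
        mul_mem hy' (inv_mem (G.X_mem_negUnipotent (G.ng_lt hp) hnp _))⟩)
    exact mul_inv_eq_one.1 h1

theorem GX_neg_mem_minPar {i : ℕ} (hi : i < D.rank) (t : F) :
    G.GX F (ng D (sim D i)) t ∈ G.minPar F hi := by
  have hp := G.sim_lt hi
  have hn : G.nIn F hi ∈ G.minPar F hi :=
    Subgroup.mem_sup_right (Subgroup.subset_closure rfl)
  have hx : G.GX F (sim D i) (-t) ∈ G.minPar F hi :=
    Subgroup.mem_sup_left (Subgroup.mem_sup_left (G.X_mem_posUnipotent hp (G.sim_pos hi) _))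
  have h := mul_mem (mul_mem hn hx) (inv_mem hn)
  convert h using 1
  refine Subtype.ext ?_
  show G.X F (ng D (sim D i)) t = G.ni F i * G.X F (sim D i) (-t) * (G.ni F i)⁻¹
  rw [G.ni_conj_X hi hp, G.w_sim hi, G.eta_sim hi, Int.cast_neg, Int.cast_one, neg_mul_neg, one_mul]

theorem std_minPar {θ : MulAut ↥(D.group F)} (h : Std θ) {i : ℕ} (hi : i < D.rank) :
    ∃ j, ∃ hj : j < D.rank, (G.minPar F hi).map θ.toMonoidHom = G.minPar F hj := by
  set P := G.bnPair F
  have key : ∀ {φ : MulAut ↥(D.group F)}, Std φ → ∀ {k : ℕ} (hk : k < D.rank),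
      ∃ j, ∃ hj : j < D.rank, G.minPar F hj ≤ (G.minPar F hk).map φ.toMonoidHom := by
    intro φ hφ k hk
    set M := (G.minPar F hk).map φ.toMonoidHom with hM
    have hBM : P.B ≤ M := by
      rw [← G.std_borel hφ]
      exact Subgroup.map_mono le_sup_left
    by_cases hS : ∃ s ∈ P.S, s ∈ M
    · obtain ⟨s, hs, hsM⟩ := hS
      obtain ⟨j, hj, e⟩ := G.mem_niSet.1 hs
      refine ⟨j, hj, sup_le hBM ((Subgroup.closure_le _).2 ?_)⟩
      rintro x rfl
      have : G.nIn F hj = s := Subtype.ext e.symm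
      rwa [SetLike.mem_coe, this]
    · exfalso
      push Not at hS
      have h1 : M = P.B := by
        rw [BNPair.eq_parabolic P hBM]
        have : {s ∈ P.S | s ∈ M} = (∅ : Set ↥(D.group F)) :=
          Set.eq_empty_of_forall_notMem fun s hs => hS s hs.1 hs.2
        rw [this, Cfsg.BNPair.parabolic, Subgroup.closure_empty, sup_bot_eq]
      have h2 : G.nIn F hk ∈ P.B := by
        have h3 : φ (G.nIn F hk) ∈ M :=
          Subgroup.mem_map_of_mem _ (Subgroup.mem_sup_right (Subgroup.subset_closure rfl))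
        rw [h1] at h3
        have h4 : (φ⁻¹ : MulAut _) (φ (G.nIn F hk)) ∈ P.B :=
          G.std_borel_le hφ.inv (Subgroup.mem_map_of_mem _ h3)
        rwa [show (φ⁻¹ : MulAut _) (φ (G.nIn F hk)) = G.nIn F hk from φ.symm_apply_apply _] at h4
      exact BNPair.s_not_mem P (G.nIn_mem_S hk) h2
  obtain ⟨j, hj, hle⟩ := key h hi
  refine ⟨j, hj, le_antisymm ?_ hle⟩
  obtain ⟨k, hk, hle'⟩ := key h.inv hj
  have h1 : G.minPar F hk ≤ G.minPar F hi := by
    refine hle'.trans ?_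
    rw [Subgroup.map_le_iff_le_comap]
    intro x hx
    obtain ⟨z, hz, ez⟩ := hle hx
    show (θ⁻¹ : MulAut _) x ∈ G.minPar F hi
    rw [← ez]
    show θ.symm (θ z) ∈ G.minPar F hi
    rw [θ.symm_apply_apply]; exact hz
  have hki : G.nIn F hk = G.nIn F hi := by
    have h2 := BNPair.mem_of_mem_parabolic P
      (J := {G.nIn F hi}) (by rintro x rfl; exact G.nIn_mem_S hi) (G.nIn_mem_S hk)
      (h1 (Subgroup.mem_sup_right (Subgroup.subset_closure rfl)))
    exact h2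
  rw [Subgroup.map_le_iff_le_comap]
  intro x hx
  have : x ∈ G.minPar F hk := by rwa [Good.minPar, hki]
  obtain ⟨z, hz, ez⟩ := hle' this
  show θ x ∈ G.minPar F hj
  rw [← ez]
  show θ (θ.symm z) ∈ G.minPar F hj
  rwa [θ.apply_symm_apply]

theorem std_neg {θ : MulAut ↥(D.group F)} (h : Std θ) (i : Fin D.rank) :
    ∃ j : Fin D.rank, ∀ t : F, ∃ u : F,
      θ (G.GX F (ng D (sim D i.val)) t) = G.GX F (ng D (sim D j.val)) u := by
  obtain ⟨j, hj, e⟩ := G.std_minPar h i.isLt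
  refine ⟨⟨j, hj⟩, fun t => G.minPar_neg hj ?_ ?_⟩
  · exact e ▸ Subgroup.mem_map_of_mem _ (G.GX_neg_mem_minPar i.isLt t)
  · exact h.2 ▸ Subgroup.mem_map_of_mem θ.toMonoidHom
      (G.X_mem_negUnipotent (G.ng_lt (G.sim_lt i.isLt)) (G.ng_sim_lt i.isLt) t :
        G.GX F (ng D (sim D i.val)) t ∈ umIn D F)

theorem std_pos (hS : chkSign D T = true) {θ : MulAut ↥(D.group F)} (h : Std θ)
    (i : Fin D.rank) :
    ∃ j : Fin D.rank, ∀ t : F, ∃ u : F,
      θ (G.GX F (sim D i.val) t) = G.GX F (sim D j.val) u := by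
  obtain ⟨l0, hl0, hpn, hnp, c, hc, hcU, hcV⟩ := G.exists_flipper (F := F)
  have hφ : Std (MulAut.conj c * θ * (MulAut.conj c)⁻¹) := by
    have h1 := map_inv_aut hcU
    have h2 := map_inv_aut hcV
    exact ⟨by rw [map_mul_aut, h2, map_mul_aut, h.2, hcV],
      by rw [map_mul_aut, h1, map_mul_aut, h.1, hcU]⟩
  have hk : ∀ m : Fin D.rank, ∃ k : Fin D.rank, wl T l0 (sim D m.val) = ng D (sim D k.val) :=
    fun m => by
      obtain ⟨k, hk, e⟩ := G.longest_sim hS hl0 hpn hnp m.isLt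
      exact ⟨⟨k, hk⟩, e⟩
  choose κ hκ using hk
  have hκinj : Function.Injective κ := fun a b e => Fin.ext (G.sim_inj a.isLt b.isLt
    (G.wl_injective hl0 (G.sim_lt a.isLt) (G.sim_lt b.isLt) (by rw [hκ a, hκ b, e])))
  have hκsurj := Finite.surjective_of_injective hκinj
  obtain ⟨k', hk'⟩ := G.std_neg hφ (κ i)
  obtain ⟨j, rfl⟩ := hκsurj k'
  have hc1 : ∀ (m : Fin D.rank) (t : F), ∃ u, MulAut.conj c (G.GX F (sim D m.val) t) =
      G.GX F (ng D (sim D (κ m).val)) u ∧ (u = t ∨ u = -t) := by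
    intro m t
    refine ⟨(el T l0 (sim D m.val) : F) * t, Subtype.ext ?_, ?_⟩
    · show (c : GL D.Idx F) * G.X F (sim D m.val) t * (c : GL D.Idx F)⁻¹ = _
      rw [hc, G.nl_conj_X hl0 (G.sim_lt m.isLt), hκ m]; rfl
    · rcases el_eq_or (T := T) l0 (sim D m.val) with e | e <;> simp [e]
  refine ⟨j, fun t => ?_⟩
  obtain ⟨u, hu, -⟩ := hc1 i t
  obtain ⟨v, hv⟩ := hk' u
  rw [← hu, MulAut.mul_apply, MulAut.mul_apply,
    show ((MulAut.conj c)⁻¹ : MulAut _) (MulAut.conj c (G.GX F (sim D i.val) t)) =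
      G.GX F (sim D i.val) t from (MulAut.conj c).symm_apply_apply _] at hv
  obtain ⟨w, hw, hw'⟩ := hc1 j v
  obtain ⟨w', hw2, hw2'⟩ := hc1 j (-v)
  rcases hw' with rfl | rfl
  · exact ⟨w, (MulAut.conj c).injective (hv.trans hw.symm)⟩
  · rcases hw2' with rfl | rfl
    · -- the sign is the same for all parameters
      exact ⟨v, (MulAut.conj c).injective (by
        rw [hv, hw]
        congr 1
        have e1 := hw
        have e2 : MulAut.conj c (G.GX F (sim D j.val) (-v)) =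
            G.GX F (ng D (sim D (κ j).val)) v := by
          rw [← G.GX_inv, map_inv, e1, G.GX_inv, neg_neg]
        exact G.GX_injective (G.ng_lt (G.sim_lt (κ j).isLt)) (e2.symm.trans hw2))⟩
    · exact ⟨-v, (MulAut.conj c).injective (by rw [hv, hw2, neg_neg])⟩

/-- `x_r(e)` moves `X_{-r}` off itself. -/
theorem eq_zero_of_conj_neg {r : ℕ} (hr : r < D.nroots) {d d' e : F} (hd : d ≠ 0)
    (h : G.X F r e * G.X F (ng D r) d * (G.X F r e)⁻¹ = G.X F (ng D r) d') : e = 0 := by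
  have hn := G.ng_lt hr
  rw [mul_inv_eq_iff_eq_mul] at h
  have h1 : G.X F (ng D r) d * G.X F r (-e) = G.X F r (-e) * G.X F (ng D r) d' := by
    rw [← G.X_inv, eq_inv_mul_iff_mul_eq, ← mul_assoc, h, mul_inv_cancel_right]
  have h2 := congrArg (fun g : GL D.Idx F =>
    (g : Matrix D.Idx D.Idx F) *ᵥ bas D F (ng D r)) h1
  simp only [Units.val_mul, ← Matrix.mulVec_mulVec, G.X_val, G.x_bas_self hn, G.x_bas_ng hr,
    Matrix.mulVec_add, Matrix.mulVec_smul, G.x_hvec hn] at h2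
  have hb : bas D F r = bas D F (ng D (ng D r)) := by rw [G.ng_ng hr]
  rw [hb, G.x_bas_ng hn] at h2
  obtain ⟨m, hm, hc⟩ := G.exists_c_ne_zero (F := F) hn
  have h3 := congrFun h2 (Sum.inl ⟨m, hm⟩)
  have hz : ∀ x, x < D.nroots → bas D F x (Sum.inl ⟨m, hm⟩) = 0 := fun x hx =>
    bas_apply_eq_zero (by simp [cd]; omega)
  simp only [Pi.add_apply, Pi.smul_apply, smul_eq_mul, hz _ hn, hz _ (G.ng_lt hn), hvec_inl,
    mul_zero, add_zero, zero_add] at h3
  have h4 : e ^ 2 * d * (T.c (ng D r) m : F) = 0 := by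
    linear_combination -h3
  simpa [hd, hc] using h4

/-- The parameters of a conjugate of `n_r(t)` are tied. -/
theorem rank_one_param {i : ℕ} (hi : i < D.rank) {a b c d : F} (hc : c ≠ 0)
    (h : G.X F (sim D i) a * G.X F (ng D (sim D i)) b * G.X F (sim D i) a * G.X F (sim D i) c *
      (G.X F (sim D i) a * G.X F (ng D (sim D i)) b * G.X F (sim D i) a)⁻¹ =
      G.X F (ng D (sim D i)) d) : b = -a⁻¹ := by
  have hp := G.sim_lt hi
  set p := sim D i
  by_cases hb : b = 0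
  · exfalso
    rw [hb, G.X_zero, mul_one, G.X_add, G.X_add, G.X_inv, G.X_add] at h
    exact G.ng_ne hp (G.X_root_inj hp (G.ng_lt hp) (fun e => hc (by linear_combination e)) h).symm
  set β := b⁻¹ with hβ
  have hβ0 : β ≠ 0 := inv_ne_zero hb
  have e2 : G.X F (ng D p) b = G.X F p β * (G.Hg F p (-β) * G.ni F i) * G.X F p β := by
    rw [← G.Ng_sim_eq hi, Good.Ng, inv_neg, neg_neg, hβ, inv_inv, ← mul_assoc, ← mul_assoc, G.X_add,
      add_neg_cancel, G.X_zero, one_mul, mul_assoc, G.X_add, neg_add_cancel, G.X_zero, mul_one]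
  obtain ⟨χ, hχ, eχ⟩ := G.exists_tor (G.Hg_mem hp (neg_ne_zero.2 hβ0) (F := F))
  have hd1 : G.Hg F p (-β) * G.ni F i * G.X F p c * (G.Hg F p (-β) * G.ni F i)⁻¹ =
      G.X F (ng D p) (tor D T χ (ng D p) * -c) := by
    calc G.Hg F p (-β) * G.ni F i * G.X F p c * (G.Hg F p (-β) * G.ni F i)⁻¹ =
        G.Hg F p (-β) * (G.ni F i * G.X F p c * (G.ni F i)⁻¹) * (G.Hg F p (-β))⁻¹ := by group
      _ = _ := by
        rw [G.ni_conj_X hi hp, G.w_sim hi, G.eta_sim hi, Int.cast_neg, Int.cast_one, neg_one_mul,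
          G.diag_conj_X eχ (G.isChar_tor fun m _ => hχ m) (G.ng_lt hp)]
  have hne : tor D T χ (ng D p) * -c ≠ 0 :=
    mul_ne_zero ((G.isChar_tor fun m _ => hχ m).ne_zero (G.ng_lt hp)) (neg_ne_zero.2 hc)
  have key : G.X F p (a + β) * G.X F (ng D p) (tor D T χ (ng D p) * -c) *
      (G.X F p (a + β))⁻¹ = G.X F (ng D p) d := by
    rw [← hd1, ← h, e2]
    have e3 : G.X F p (a + β) = G.X F p a * G.X F p β := (G.X_add _ _ _).symm
    have e4 : G.X F p (β + a) = G.X F p β * G.X F p a := (G.X_add _ _ _).symm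
    have hcomm : G.X F p (a + β) * G.X F p c = G.X F p c * G.X F p (a + β) := by
      rw [G.X_add, G.X_add, add_comm]
    generalize hν : G.Hg F p (-β) * G.ni F i = ν
    have hm : G.X F p a * (G.X F p β * ν * G.X F p β) * G.X F p a =
        G.X F p (a + β) * ν * G.X F p (a + β) := by
      conv_rhs => arg 2; rw [add_comm, e4]
      rw [e3]; group
    rw [hm]
    calc G.X F p (a + β) * (ν * G.X F p c * ν⁻¹) * (G.X F p (a + β))⁻¹ =
        G.X F p (a + β) * ν * (G.X F p (a + β) * G.X F p c * (G.X F p (a + β))⁻¹) * ν⁻¹ *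
          (G.X F p (a + β))⁻¹ := by rw [hcomm]; group
      _ = _ := by group
  have h0 := G.eq_zero_of_conj_neg hp hne key
  rw [add_eq_zero_iff_eq_neg] at h0
  rw [h0, inv_neg, neg_neg, hβ, inv_inv]

theorem terms_sim_ng (hS : chkSign D T = true) {i j : ℕ} (hi : i < D.rank) (hj : j < D.rank)
    (hne : i ≠ j) : T.terms (sim D i) (ng D (sim D j)) = [] := by
  refine List.eq_nil_iff_forall_not_mem.2 ?_
  rintro ⟨k, C, a, b⟩ hmem
  obtain ⟨hk, ha, hb, hkk⟩ := G.mem_terms (G.sim_lt hi) (G.ng_lt (G.sim_lt hj)) hmem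
  have h1 := hkk i hi
  have h2 := hkk j hj
  rw [G.k_sim hi hi, if_pos rfl, G.k_ng (G.sim_lt hj) hi, G.k_sim hj hi, if_neg hne] at h1
  rw [G.k_sim hi hj, if_neg (Ne.symm hne), G.k_ng (G.sim_lt hj) hj, G.k_sim hj hj, if_pos rfl] at h2
  by_cases hp : npos D ≤ k
  · have := k_nonneg hS hk hp hj; omega
  · have := G.k_nonpos hS hk (Nat.lt_of_not_le hp) hi; omega

theorem GX_comm_ne (hS : chkSign D T = true) {i j : ℕ} (hi : i < D.rank) (hj : j < D.rank)
    (hne : i ≠ j) (t u : F) :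
    G.GX F (ng D (sim D j)) u * G.GX F (sim D i) t =
      G.GX F (sim D i) t * G.GX F (ng D (sim D j)) u := by
  refine Subtype.ext ?_
  show G.X F (ng D (sim D j)) u * G.X F (sim D i) t = _
  have h1 : ng D (sim D j) ≠ sim D i := fun e => by
    have := G.ng_sim_lt hj; have := G.sim_pos hi; omega
  have h2 : ng D (sim D j) ≠ ng D (sim D i) := fun e => hne (G.ng_sim_inj hj hi e).symm
  rw [G.commAt _ _ (G.sim_lt hi) (G.ng_lt (G.sim_lt hj)) h1 h2 t u]
  simp [Good.wordG, cw, G.terms_sim_ng hS hi hj hne, Good.GX_val]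

theorem exists_act (hS : chkSign D T = true) {θ : MulAut ↥(D.group F)} (h : Std θ) :
    ∃ π f, G.Act1 θ π f := by
  classical
  choose ρ hρ using G.std_neg h
  choose σ hσ using G.std_pos hS h
  choose g hg using hρ
  choose f hf using hσ
  have hne : ∀ (r : ℕ), r < D.nroots → ∀ {s : ℕ} (t : F), t ≠ 0 → ∀ u : F,
      θ (G.GX F r t) = G.GX F s u → u ≠ 0 := fun r hr s t ht u e hu => ht (by
    rw [hu, G.GX_zero, map_eq_one_iff θ θ.injective, ← G.GX_zero r] at e
    exact G.GX_injective hr e)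
  have hρσ : ∀ i, ρ i = σ i := by
    intro i
    by_contra hne'
    have hij : (σ i).val ≠ (ρ i).val := fun e => hne' (Fin.ext e).symm
    have h1 := G.GX_comm_ne hS (σ i).isLt (ρ i).isLt hij (f i 1) (g i 1)
    rw [← hf i 1, ← hg i 1, ← map_mul, ← map_mul] at h1
    have h2 : G.X F (ng D (sim D i.val)) (1 : F) * G.X F (sim D i.val) 1 =
        G.X F (sim D i.val) 1 * G.X F (ng D (sim D i.val)) 1 :=
      congrArg Subtype.val (θ.injective h1)
    refine one_ne_zero (α := F) (G.eq_zero_of_conj_neg (G.sim_lt i.isLt) (d := (1 : F)) (d' := 1)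
      one_ne_zero ?_)
    rw [← h2, mul_inv_cancel_right]
  have hσinj : Function.Injective σ := by
    obtain ⟨σ', hσ'⟩ : ∃ σ' : Fin D.rank → Fin D.rank, ∀ j t, ∃ u,
        (θ⁻¹ : MulAut _) (G.GX F (sim D j.val) t) = G.GX F (sim D (σ' j).val) u := by
      choose σ' hσ' using G.std_pos hS h.inv
      exact ⟨σ', hσ'⟩
    intro a b e
    have key : ∀ a, σ' (σ a) = a := fun a => by
      obtain ⟨u, hu⟩ := hσ' (σ a) (f a 1)
      rw [← hf a 1, show (θ⁻¹ : MulAut _) (θ (G.GX F (sim D a.val) 1)) = G.GX F (sim D a.val) 1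
        from θ.symm_apply_apply _] at hu
      exact (Fin.ext (G.sim_inj a.isLt (σ' (σ a)).isLt
        (G.GX_root_inj (G.sim_lt a.isLt) (G.sim_lt (σ' (σ a)).isLt) one_ne_zero hu))).symm
    rw [← key a, e, key b]
  refine ⟨Equiv.ofBijective σ ⟨hσinj, Finite.surjective_of_injective hσinj⟩, f, fun i t =>
    ⟨hf i t, ?_⟩⟩
  have hg' : θ (G.GX F (ng D (sim D i.val)) t) = G.GX F (ng D (sim D (σ i).val)) (g i t) := by
    rw [← hρσ i]; exact hg i t
  show _ = G.GX F (ng D (sim D (σ i).val)) _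
  by_cases ht : t = 0
  · have h0 : f i 0 = 0 := by
      refine (G.GX_injective (G.sim_lt (σ i).isLt) ?_)
      rw [← hf i 0, G.GX_zero, map_one, G.GX_zero]
    simp [ht, h0, G.GX_zero]
  rw [hg']
  congr 1
  have hp := G.sim_lt i.isLt
  have hn : -t⁻¹ ≠ 0 := neg_ne_zero.2 (inv_ne_zero ht)
  have hsrc : G.GX F (sim D i.val) (-t⁻¹) * G.GX F (ng D (sim D i.val)) t *
      G.GX F (sim D i.val) (-t⁻¹) * G.GX F (sim D i.val) 1 *
      (G.GX F (sim D i.val) (-t⁻¹) * G.GX F (ng D (sim D i.val)) t *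
      G.GX F (sim D i.val) (-t⁻¹))⁻¹ =
      G.GX F (ng D (sim D i.val)) ((-t⁻¹) ^ (-2 : ℤ) * -1) := by
    refine Subtype.ext ?_
    simp only [Subgroup.coe_mul, InvMemClass.coe_inv, Good.GX_val]
    have e : G.X F (sim D i.val) (-t⁻¹) * G.X F (ng D (sim D i.val)) t *
        G.X F (sim D i.val) (-t⁻¹) = G.Hg F (sim D i.val) (-t⁻¹) * G.ni F i.val := by
      rw [← G.Ng_sim_eq i.isLt, Good.Ng, inv_neg, inv_inv, neg_neg]
    rw [e]
    calc G.Hg F (sim D i.val) (-t⁻¹) * G.ni F i.val * G.X F (sim D i.val) 1 *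
        (G.Hg F (sim D i.val) (-t⁻¹) * G.ni F i.val)⁻¹ =
        G.Hg F (sim D i.val) (-t⁻¹) * (G.ni F i.val * G.X F (sim D i.val) 1 * (G.ni F i.val)⁻¹) *
          (G.Hg F (sim D i.val) (-t⁻¹))⁻¹ := by group
      _ = _ := by
        rw [G.ni_conj_X i.isLt hp, G.w_sim i.isLt, G.eta_sim i.isLt, Int.cast_neg, Int.cast_one,
          neg_one_mul, G.Hg_conj_X hp (G.ng_lt hp) hn, G.P_ng_right hp, G.P_self hp]
  have h1 := congrArg θ hsrc
  simp only [map_mul, map_inv, hf i, hg'] at h1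
  have h2 : θ (G.GX F (ng D (sim D i.val)) ((-t⁻¹) ^ (-2 : ℤ) * -1)) =
      G.GX F (ng D (sim D (σ i).val)) (g i ((-t⁻¹) ^ (-2 : ℤ) * -1)) := by
    rw [← hρσ i]; exact hg i _
  rw [h2] at h1
  exact G.rank_one_param (σ i).isLt (hne _ hp 1 one_ne_zero _ (hf i 1)) (congrArg Subtype.val h1)

end Good

end Cfsg.Agent.Lib.Chev
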